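import Mathlib
import Cfsg.Agent.Lib.WAb.Blk

/-! Fusion in a Sylow `3`-subgroup `3^(1+2)` whose normalizer centralizes its centre. -/

set_option autoImplicit false

namespace CfsgLib.E27

open Cfsg Subgroup CfsgLib.Tech CfsgLib.Block CfsgLib.Blk
open CfsgLib.BrPair (Cz Nz)

instance fact3 : Fact (Nat.Prime 3) := ⟨Nat.prime_three⟩

variable {G : Type*} [Group G]

structure Hyp (P : Sylow 3 G) (z : G) : Prop where
  card : Nat.card (P : Subgroup G) = 27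
  exp : ∀ x ∈ (P : Subgroup G), x ^ 3 = 1
  mem : z ∈ (P : Subgroup G)
  ne : z ≠ 1
  comm : ∀ x ∈ (P : Subgroup G), ∀ y ∈ (P : Subgroup G), x * y * x⁻¹ * y⁻¹ ∈ zpowers z
  cent : ∀ x ∈ (P : Subgroup G), (P : Subgroup G) ≤ Cu x → x ∈ zpowers z
  norm : Nz (P : Subgroup G) ≤ Cu z

theorem conj_of_Cu {z g w : G} (hg : g ∈ Cu z) (hw : w ∈ zpowers z) : g * w * g⁻¹ = w := by
  obtain ⟨n, rfl⟩ := hw
  simp only [← conj_zpow, mul_inv_eq_iff_eq_mul.2 (mem_Cu.1 hg).symm]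

/-- The elements centralizing `z` and the coset `u⟨z⟩`. -/
def Kc (z u : G) : Subgroup G where
  carrier := {k | k ∈ Cu z ∧ k * u * k⁻¹ * u⁻¹ ∈ zpowers z}
  one_mem' := ⟨one_mem _, by simp⟩
  mul_mem' {a b} ha hb := ⟨mul_mem ha.1 hb.1, by
    have := mul_mem hb.2 ha.2
    rw [← conj_of_Cu ha.1 hb.2] at this
    convert this using 1; group⟩
  inv_mem' {a} ha := ⟨inv_mem ha.1, by
    have := inv_mem ha.2
    rw [← conj_of_Cu (inv_mem ha.1) this] at this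
    have h2 := conj_of_Cu (inv_mem ha.1) (inv_mem ha.2)
    convert this using 1; group⟩

namespace Hyp
variable {P : Sylow 3 G} {z : G} (H : Hyp P z)
include H

theorem le_Cu : (P : Subgroup G) ≤ Cu z := le_normalizer.trans H.norm

theorem order {x : G} (hx : x ∈ (P : Subgroup G)) (h1 : x ≠ 1) : orderOf x = 3 :=
  orderOf_eq_prime (H.exp x hx) h1

theorem pElt {x : G} (hx : x ∈ (P : Subgroup G)) : ∃ k : ℕ, orderOf x = 3 ^ k := by
  by_cases h : x = 1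
  exacts [⟨0, by simp [h]⟩, ⟨1, H.order hx h⟩]

theorem zle : zpowers z ≤ P := zpowers_le.2 H.mem

theorem sq : z * z = z⁻¹ := eq_inv_of_mul_eq_one_left (by rw [← pow_three', H.exp z H.mem])

theorem mem_Z {x : G} : x ∈ zpowers z ↔ x = 1 ∨ x = z ∨ x = z⁻¹ := by
  refine ⟨fun h => ?_, by rintro (rfl | rfl | rfl) <;> simp⟩
  classical
  rw [(isOfFinOrder_iff_pow_eq_one.2 ⟨3, by norm_num, H.exp z H.mem⟩).mem_zpowers_iff_mem_range_orderOf,
    H.order H.mem H.ne] at h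
  obtain ⟨i, hi, rfl⟩ := Finset.mem_image.1 h
  have := Finset.mem_range.1 hi
  interval_cases i <;> simp [pow_two, H.sq]

theorem inv_ne : z⁻¹ ≠ z := fun h => H.ne (mul_left_cancel (a := z) (by rw [H.sq, h, mul_one]))

theorem le_Kc {u : G} (hu : u ∈ (P : Subgroup G)) : (P : Subgroup G) ≤ Kc z u :=
  fun x hx => ⟨H.le_Cu hx, H.comm x hx u hu⟩

theorem exists_conj {u w : G} (hu : u ∈ (P : Subgroup G)) (hZ : u ∉ zpowers z)
    (hw : w ∈ zpowers z) : ∃ x ∈ (P : Subgroup G), x * u * x⁻¹ = w * u := by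
  obtain ⟨y, hy, hyu⟩ := SetLike.not_le_iff_exists.1 fun h => hZ (H.cent u hu h)
  have h1 : y * u * y⁻¹ * u⁻¹ ≠ 1 := fun h => hyu (mem_Cu.2 (by
    rw [mul_inv_eq_one, mul_inv_eq_iff_eq_mul] at h; exact h.symm))
  have h2 := H.comm y hy u hu
  have h3 : y * y * u * (y * y)⁻¹ = y * u * y⁻¹ * u⁻¹ * (y * u * y⁻¹ * u⁻¹) * u := by
    nth_rw 1 [← conj_of_Cu (H.le_Cu hy) h2]; group
  have h4 : z⁻¹ * z⁻¹ = z := by rw [← mul_inv_rev, H.sq, inv_inv]
  rcases H.mem_Z.1 hw with rfl | rfl | rfl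
  · exact ⟨1, one_mem _, by simp⟩
  all_goals rcases (H.mem_Z.1 h2).resolve_left h1 with h | h
  · exact ⟨y, hy, eq_mul_of_mul_inv_eq h⟩
  · exact ⟨y * y, mul_mem hy hy, by rw [h3, h, h4]⟩
  · exact ⟨y * y, mul_mem hy hy, by rw [h3, h, H.sq]⟩
  · exact ⟨y, hy, eq_mul_of_mul_inv_eq h⟩

theorem orb_eq {u : G} (hu : u ∈ (P : Subgroup G)) (hZ : u ∉ zpowers z) :
    (Abel2.orb P u).ncard = 3 := by
  have : Abel2.orb P u = (· * u) '' (zpowers z : Set G) := Set.ext fun x =>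
    ⟨fun ⟨n, hn, h⟩ => ⟨_, H.comm n hn u hu, by simp [h]⟩, fun ⟨w, hw, h⟩ =>
      h ▸ H.exists_conj hu hZ hw⟩
  rw [this, Set.ncard_image_of_injective _ (mul_left_injective u), ← Nat.card_coe_set_eq]
  exact (Nat.card_zpowers z).trans (H.order H.mem H.ne)

variable [Finite G]

theorem card_V {u : G} (hu : u ∈ (P : Subgroup G)) (hZ : u ∉ zpowers z) :
    Nat.card ↥((P : Subgroup G) ⊓ Cu u) = 9 := by
  have h1 := card_mul_relIndex' (inf_le_left : (P : Subgroup G) ⊓ Cu u ≤ P)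
  rw [inf_relIndex_left, ← Abel2.ncard_orb, H.orb_eq hu hZ, H.card] at h1
  omega

theorem V_le {u : G} (hu : u ∈ (P : Subgroup G)) (hZ : u ∉ zpowers z) {K : Subgroup G}
    (h1 : u ∈ K) (h2 : z ∈ K) : (P : Subgroup G) ⊓ Cu u ≤ K := by
  have h3 : zpowers z < (P : Subgroup G) ⊓ Cu u ⊓ K := SetLike.lt_iff_le_and_exists.2
    ⟨zpowers_le.2 ⟨⟨H.mem, mem_Cu.2 (mem_Cu.1 (H.le_Cu hu)).symm⟩, h2⟩, u,
      mem_inf.2 ⟨⟨hu, mem_Cu.2 rfl⟩, h1⟩, hZ⟩
  have h4 := card_dvd_of_le (inf_le_left : (P : Subgroup G) ⊓ Cu u ⊓ K ≤ _)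
  have h5 : Nat.card (zpowers z) < Nat.card ↥((P : Subgroup G) ⊓ Cu u ⊓ K) :=
    lt_of_le_of_ne (card_le_of_le h3.le) fun h => h3.ne (eq_of_le_of_card_ge h3.le h.ge)
  rw [Nat.card_zpowers, H.order H.mem H.ne] at h5
  refine inf_eq_left.1 (eq_of_le_of_card_ge inf_le_left ?_)
  rw [H.card_V hu hZ] at h4 ⊢
  have := Nat.le_of_dvd (by norm_num) h4
  generalize Nat.card ↥((P : Subgroup G) ⊓ Cu u ⊓ K) = n at *
  interval_cases n <;> omega

theorem weak_aux {g : G} (h : g * z * g⁻¹ ∈ zpowers z) : g * z * g⁻¹ = z := by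
  have h1 : zpowers z ≤ Cz (P : Subgroup G) :=
    zpowers_le.2 (mem_centralizer_iff.2 fun y hy => (mem_Cu.1 (H.le_Cu hy)).symm)
  obtain ⟨n, hn, h2⟩ := Transfer.exists_normalizer_conj_of_mem_centralizer P
    (h1 (mem_zpowers z)) (h1 h)
  rw [h2, conj_of_Cu (H.norm hn) (mem_zpowers z)]

theorem weak {g : G} (h : g * z * g⁻¹ ∈ (P : Subgroup G)) : g * z * g⁻¹ = z := by
  refine H.weak_aux (by_contra fun hZ => ?_)
  have h1 : IsSylowIn 3 (cj g P) (Cu (g * z * g⁻¹)) := by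
    rw [Cu, ← cj_centralizer_singleton]; exact (IsSylowIn.of_sylow P H.le_Cu).cj g
  obtain ⟨c, hc, h2⟩ := h1.exists_conj_mem (x := z) (mem_Cu.2 (mem_Cu.1 (H.le_Cu h)).symm)
    (isPGroup_zpowers_of_mem P.isPGroup' H.mem)
  rw [mem_cj] at h2
  have h3 : c⁻¹ * (g * z * g⁻¹) * c = g * z * g⁻¹ := by
    rw [mul_assoc, mem_Cu.1 hc, inv_mul_cancel_left]
  generalize hu : g * z * g⁻¹ = u at *
  obtain ⟨k, rfl⟩ : ∃ k, g = c * k := ⟨c⁻¹ * g, by group⟩
  have h4 : k * z * k⁻¹ = u := by rw [← h3, ← hu]; group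
  have h5 : k⁻¹ * z * k ∈ (P : Subgroup G) := by convert h2 using 1; group
  have h6 : k⁻¹ * z * k ∉ zpowers z := fun h7 => by
    have := H.weak_aux (g := k⁻¹) (by rwa [inv_inv])
    exact hZ (by rw [← h4]; nth_rw 2 [← this]; simp [mul_assoc])
  obtain ⟨b, hb, h7⟩ := H.exists_conj h5 h6 (inv_mem (mem_zpowers z))
  obtain ⟨a, ha, h8⟩ := H.exists_conj h hZ (mem_zpowers z)
  have b1 : (k * b * k⁻¹) * z * (k * b * k⁻¹)⁻¹ = u⁻¹ * z := by
    rw [← h4]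
    calc _ = k * (b * (k⁻¹ * z * k) * b⁻¹) * k⁻¹ := by group
      _ = _ := by rw [h7]; group
  have b2 : (k * b * k⁻¹) * u * (k * b * k⁻¹)⁻¹ = u := by
    rw [← h4]
    calc _ = k * (b * z * b⁻¹) * k⁻¹ := by group
      _ = _ := by rw [conj_of_Cu (H.le_Cu hb) (mem_zpowers z)]
  generalize k * b * k⁻¹ = β at b1 b2
  have a1 := conj_of_Cu (H.le_Cu ha) (mem_zpowers z)
  have uz := mem_Cu.1 (H.le_Cu h)
  have s1 : a * β * a * z * (a * β * a)⁻¹ = u⁻¹ := by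
    calc _ = a * (β * (a * z * a⁻¹) * β⁻¹) * a⁻¹ := by group
      _ = a * (u⁻¹ * z) * a⁻¹ := by rw [a1, b1]
      _ = (a * u * a⁻¹)⁻¹ * (a * z * a⁻¹) := by group
      _ = _ := by rw [h8, a1]; group
  have s2 : a * β * a * u * (a * β * a)⁻¹ = z := by
    calc _ = a * (β * (a * u * a⁻¹) * β⁻¹) * a⁻¹ := by group
      _ = a * ((β * z * β⁻¹) * (β * u * β⁻¹)) * a⁻¹ := by rw [h8]; group
      _ = _ := by rw [b1, b2, mul_assoc u⁻¹, uz, inv_mul_cancel_left, a1]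
  generalize a * β * a = s at s1 s2
  have s3 : s * s * z * (s * s)⁻¹ = z⁻¹ := by
    calc _ = s * (s * z * s⁻¹) * s⁻¹ := by group
      _ = _ := by rw [s1, ← s2]; group
  exact H.inv_ne (s3.symm.trans (H.weak_aux (s3 ▸ inv_mem (mem_zpowers z))))

theorem weak' {g w : G} (hw : w ∈ zpowers z) (h : g * w * g⁻¹ ∈ (P : Subgroup G)) :
    g * w * g⁻¹ = w := by
  rcases H.mem_Z.1 hw with rfl | rfl | rfl
  · simp
  · exact H.weak h
  · rw [← conj_inv] at h ⊢; rw [H.weak (inv_mem_iff.1 h)]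

theorem conj_notMem {g u : G} (hu : u ∈ (P : Subgroup G)) (hZ : u ∉ zpowers z) :
    g * u * g⁻¹ ∉ zpowers z := fun h => by
  have := H.weak' (g := g⁻¹) h (by simpa [mul_assoc] using hu)
  exact hZ (by rw [← this] at h; simpa [mul_assoc] using h)

theorem control {x g : G} (hx : x ∈ (P : Subgroup G)) (hg : g * x * g⁻¹ ∈ (P : Subgroup G)) :
    ∃ n ∈ Nz (P : Subgroup G), g * x * g⁻¹ = n * x * n⁻¹ := by
  by_cases hZ : x ∈ zpowers z
  · exact ⟨1, one_mem _, by rw [H.weak' hZ hg]; simp⟩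
  obtain ⟨c, hc, h1⟩ := Transfer.control_element_of_isWeaklyClosed_central P (Z := zpowers z)
    (zpowers_le.2 (mem_centralizer_iff.2 fun y hy => (mem_Cu.1 (H.le_Cu hy)).symm))
    ⟨H.zle, fun k hk => by
      have := cj_zpowers k z
      rwa [H.weak (hk (conj_mem_cj.2 (mem_zpowers z)))] at this⟩ x hx g hg
  have hc' : c ∈ Cu z := mem_Cu.2 (mul_inv_eq_iff_eq_mul.1
    (H.weak_aux (conj_mem_of_mem_normalizer hc (mem_zpowers z)))).symm
  rw [h1] at hg ⊢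
  obtain ⟨n, hn, k, hk, h2⟩ := Transfer.exists_normalizer_mul_of_le P (g := c⁻¹) (H.le_Kc hg)
    (cj_le_iff.2 fun w hw => ⟨by simpa using mul_mem (mul_mem hc' (H.le_Cu hw)) (inv_mem hc'), by
      have := H.comm w hw x hx
      rw [← conj_of_Cu hc' this] at this
      convert this using 1; group⟩)
  obtain ⟨y, hy, h3⟩ := H.exists_conj hg (H.conj_notMem hx hZ) hk.2
  refine ⟨y⁻¹ * n⁻¹, mul_mem (inv_mem (le_normalizer hy)) (inv_mem hn), ?_⟩
  obtain rfl : k = n⁻¹ * c⁻¹ := by rw [h2]; group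
  calc c * x * c⁻¹ = y⁻¹ * (y * (c * x * c⁻¹) * y⁻¹) * y := by group
    _ = _ := by rw [h3]; group

theorem sylowIn {u : G} (hu : u ∈ (P : Subgroup G)) (hZ : u ∉ zpowers z) :
    IsSylowIn 3 ((P : Subgroup G) ⊓ Cu u) (Cu u) := by
  refine isSylowIn_of_maximal (P.isPGroup'.to_le inf_le_left) inf_le_right fun R hR h1 h2 => ?_
  obtain ⟨g, -, hg⟩ := (IsSylowIn.of_sylow_top P).exists_cj_le hR le_top
  have h3 : cj g R ≤ (P : Subgroup G) ⊓ Cu (g * u * g⁻¹) :=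
    le_inf hg ((cj_mono g h2).trans (cj_centralizer_singleton g u).le)
  have h4 := card_le_of_le h3
  rw [card_cj, H.card_V (hg (conj_mem_cj.2 (h1 ⟨hu, mem_Cu.2 rfl⟩))) (H.conj_notMem hu hZ),
    ← H.card_V hu hZ] at h4
  exact (eq_of_le_of_card_ge h1 h4).ge

theorem npc {u : G} (hu : u ∈ (P : Subgroup G)) (hZ : u ∉ zpowers z) :
    HasNormalPComplement 3 (Cu u) := by
  have hz : z ∈ (P : Subgroup G) ⊓ Cu u := ⟨H.mem, mem_Cu.2 (mem_Cu.1 (H.le_Cu hu)).symm⟩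
  refine Transfer.burnside_normal_complement (H.sylowIn hu hZ).toSylow fun g hg =>
    mem_centralizer_iff.2 fun v hv => Subtype.ext (mem_Cu.1 (H.V_le hu hZ (K := Cu (g : G))
      (mem_Cu.2 (mem_Cu.1 g.2).symm) (mem_Cu.2 ?_) hv)).symm
  exact mul_inv_eq_iff_eq_mul.1
    (H.weak (conj_mem_of_mem_normalizer hg (x := ⟨z, hz.2⟩) hz).1)

theorem mem_PC {u n : G} (hu : u ∈ (P : Subgroup G)) (hZ : u ∉ zpowers z)
    (hn : n ∈ Nz (P : Subgroup G)) (h : n ∈ Kc z u) :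
    n ∈ (P : Subgroup G) ⊔ Cz (P : Subgroup G) := by
  obtain ⟨y, hy, h1⟩ := H.exists_conj hu hZ h.2
  suffices y⁻¹ * n ∈ (P : Subgroup G) ⊔ Cz (P : Subgroup G) by
    simpa using mul_mem (mem_sup_left hy) this
  have h2 : u ∈ Cu (y⁻¹ * n) := mem_Cu.2 (by
    rw [inv_mul_cancel_right] at h1
    calc y⁻¹ * n * u = y⁻¹ * (n * u * n⁻¹) * n := by group
      _ = _ := by rw [← h1]; group)
  have h3 := mul_mem (inv_mem (le_normalizer hy)) hn
  generalize y⁻¹ * n = m at h2 h3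
  have h4 := H.V_le hu hZ h2 (mem_Cu.2 (mem_Cu.1 (H.norm h3)).symm)
  have h5 : m ^ 3 ∈ Cz (P : Subgroup G) := mem_centralizer_iff.2 fun x hx => by
    have hx' := conj_mem_of_mem_normalizer h3 hx
    have h6 : x⁻¹ * (m * x * m⁻¹) ∈ (P : Subgroup G) ⊓ Cu u := by
      refine mem_inf.2 ⟨mul_mem (inv_mem hx) hx', mem_Cu.2 ?_⟩
      have h7 := conj_of_Cu (H.norm h3) (H.comm _ (inv_mem hx) u hu)
      have h8 : m * u * m⁻¹ = u := mul_inv_eq_iff_eq_mul.2 (mem_Cu.1 h2)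
      have h9 := conj_of_Cu (H.norm h3) (H.comm _ hx u hu)
      have : m * x * m⁻¹ * u * (m * x * m⁻¹)⁻¹ * u⁻¹ = x * u * x⁻¹ * u⁻¹ := by
        rw [← h9]; nth_rw 1 2 [← h8]; group
      calc u * (x⁻¹ * (m * x * m⁻¹)) = x⁻¹ * (x * u * x⁻¹ * u⁻¹) * u * (m * x * m⁻¹) := by group
        _ = _ := by rw [← this]; group
    have h7 := mem_Cu.1 (h4 h6)
    have h8 := H.exp _ h6.1
    generalize hv : x⁻¹ * (m * x * m⁻¹) = v at h7 h8
    have h9 : m * x = x * v * m := by rw [← hv]; group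
    calc x * m ^ 3 = x * v ^ 3 * m ^ 3 := by rw [h8, mul_one]
      _ = x * v * m * v * m * v * m := by
        rw [mul_assoc x, ← (Commute.mul_pow h7.symm 3), pow_three]; group
      _ = m ^ 3 * x := by
        rw [pow_three, ← h9, mul_assoc m x, mul_assoc m, ← h9, mul_assoc m, mul_assoc m,
          mul_assoc m x, mul_assoc m, ← h9]; group
  obtain ⟨w, hw⟩ := exists_isPPart Nat.prime_three m
  obtain ⟨j, rfl⟩ := isPPart_mem_zpowers Nat.prime_three hw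
  obtain ⟨y, h6, -, hk, h7⟩ := hw
  have h8 : m ^ j ∈ (P : Subgroup G) := by
    have := (isPGroup_zpowers_iff.2 hk).inf_normalizer_sylow P
    exact (this.le ⟨mem_zpowers _, zpow_mem h3 j⟩).2
  have h9 : y ^ 3 ∈ Cz (P : Subgroup G) := by
    have : y = m ^ (1 - j) := by rw [zpow_sub, zpow_one, ← mul_right_inj (m ^ j), h6]; group
    rw [this, ← zpow_natCast, ← zpow_mul, mul_comm, zpow_mul, zpow_natCast]
    exact zpow_mem h5 _
  rw [← h6]
  exact mul_mem (mem_sup_left h8) (mem_sup_right (zpowers_le.2 h9 (mem_zpowers_pow_iff.2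
    ((Nat.prime_three.coprime_iff_not_dvd).2 h7))))

theorem ncard_orb {u : G} (hu : u ∈ (P : Subgroup G)) (hZ : u ∉ zpowers z) :
    (Abel2.orb (Nz (P : Subgroup G)) u).ncard =
      3 * ((P : Subgroup G) ⊔ Cz (P : Subgroup G)).relIndex (Nz (P : Subgroup G)) := by
  have h1 : (P : Subgroup G) ⊔ Cz (P : Subgroup G) ≤ Nz (P : Subgroup G) :=
    sup_le le_normalizer (centralizer_le_normalizer _)
  have h2 : Cu u ⊓ Nz (P : Subgroup G) = Cu u ⊓ ((P : Subgroup G) ⊔ Cz (P : Subgroup G)) :=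
    le_antisymm (fun n hn => ⟨hn.1, H.mem_PC hu hZ hn.2 ⟨H.norm hn.2, by
      rw [← mem_Cu.1 hn.1]; simp⟩⟩) (inf_le_inf_left _ h1)
  have h3 : Abel2.orb ((P : Subgroup G) ⊔ Cz (P : Subgroup G)) u = Abel2.orb P u :=
    Set.ext fun x => ⟨fun ⟨n, hn, h⟩ => by
      obtain ⟨a, ha, c, hc, rfl⟩ := (Core.mem_sup_of_le_normalizer_right
        (le_normalizer.trans (Core.normalizer_le_normalizer_centralizer _))).1 hn
      exact ⟨a, ha, by rw [← h, mul_assoc a c, ← mem_centralizer_iff.1 hc u hu]; group⟩,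
      fun ⟨n, hn, h⟩ => ⟨n, mem_sup_left hn, h⟩⟩
  have h4 := H.orb_eq hu hZ
  rw [← h3, Abel2.ncard_orb] at h4
  rw [Abel2.ncard_orb, ← inf_relIndex_right, h2,
    ← relIndex_mul_relIndex _ _ _ inf_le_right h1, inf_relIndex_right, h4]

theorem isConj_inv
    (he : 2 ∣ ((P : Subgroup G) ⊔ Cz (P : Subgroup G)).relIndex (Nz (P : Subgroup G)))
    {u : G} (hu : u ∈ (P : Subgroup G)) (hZ : u ∉ zpowers z) :
    ∃ n ∈ Nz (P : Subgroup G), n * u * n⁻¹ = u⁻¹ := by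
  haveI : (((P : Subgroup G) ⊔ Cz (P : Subgroup G)).subgroupOf (Nz (P : Subgroup G))).Normal :=
    normal_subgroupOf_of_le_normalizer ((le_inf le_rfl
      (Core.normalizer_le_normalizer_centralizer _)).trans (Core.normalizer_inf_le_normalizer_sup _ _))
  haveI : Fact (Nat.Prime 2) := ⟨Nat.prime_two⟩
  obtain ⟨q, hq⟩ := exists_prime_orderOf_dvd_card' 2 he
  obtain ⟨n, rfl⟩ := QuotientGroup.mk_surjective q
  have h1 : (n : G) ∉ (P : Subgroup G) ⊔ Cz (P : Subgroup G) := fun h => by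
    rw [(QuotientGroup.eq_one_iff n).2 h, orderOf_one] at hq; omega
  have h2 : (n : G) * n ∈ Kc z u := (sup_le (H.le_Kc hu) fun c hc =>
    ⟨mem_Cu.2 (mem_centralizer_iff.1 hc z H.mem), by rw [← mem_centralizer_iff.1 hc u hu]; simp⟩ :
      (P : Subgroup G) ⊔ Cz (P : Subgroup G) ≤ Kc z u)
    ((QuotientGroup.eq_one_iff (N := ((P : Subgroup G) ⊔ Cz (P : Subgroup G)).subgroupOf _)
      (n * n)).1 (by
      rw [QuotientGroup.mk_mul, ← pow_two, ← hq, pow_orderOf_eq_one]))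
  have h3 := conj_mem_of_mem_normalizer n.2 hu
  have h4 : n * u * (n : G)⁻¹ * u ∈ zpowers z := by
    by_contra h5
    refine h1 (H.mem_PC (mul_mem h3 hu) h5 n.2 ⟨H.norm n.2, ?_⟩)
    have := mul_mem h2.2 (H.comm u hu _ h3)
    convert this using 1; group
  obtain ⟨y, hy, h5⟩ := H.exists_conj (inv_mem hu) (fun h => hZ (inv_mem_iff.1 h)) h4
  refine ⟨y⁻¹ * n, mul_mem (inv_mem (le_normalizer hy)) n.2, ?_⟩
  rw [mul_inv_cancel_right] at h5
  calc _ = y⁻¹ * (n * u * (n : G)⁻¹) * y := by group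
    _ = _ := by rw [← h5]; group

theorem sub : Hyp (P.subtype H.le_Cu) (uC z) where
  card := (Nat.card_congr (subgroupOfEquivOfLe H.le_Cu).toEquiv).trans H.card
  exp x hx := Subtype.ext (H.exp x hx)
  mem := H.mem
  ne h := H.ne (congrArg Subtype.val h)
  comm x hx y hy := by
    obtain ⟨n, hn⟩ := H.comm x hx y hy
    exact ⟨n, Subtype.ext hn⟩
  cent x hx h := by
    obtain ⟨n, hn⟩ := H.cent x hx fun y hy =>
      mem_Cu.2 (congrArg Subtype.val (mem_Cu.1 (h (x := ⟨y, H.le_Cu hy⟩) hy)))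
    exact ⟨n, Subtype.ext hn⟩
  norm x _ := mem_Cu.2 (uC_comm z x)

end Hyp

end CfsgLib.E27
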