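import Mathlib
import Cfsg.Agent.Lib.E27.Grp
import Cfsg.Agent.Lib.E27.Lat
import Cfsg.Agent.Lib.Block.Klein

/-!
# Principal 3-blocks with Sylow subgroup `3^{1+2}`: the columns at non-central elements
-/

set_option autoImplicit false

namespace CfsgLib.E27

open Cfsg Subgroup CfsgLib.Tech CfsgLib.Block CfsgLib.Blk CfsgLib.Char CfsgLib.WAb
open CfsgLib.BrPair (Cz Nz Ce)
open scoped ComplexConjugate

variable {G : Type*} [Group G] {J : Type*} {M : Ideal AlgInt}

/-- Representatives of the conjugacy classes meeting `P` outside `⟨z⟩`. -/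
structure Reps (P : Sylow 3 G) (z : G) (u : J → G) : Prop where
  mem : ∀ j, u j ∈ (P : Subgroup G)
  out : ∀ j, u j ∉ zpowers z
  inj : ∀ j l, IsConj (u j) (u l) → j = l
  cover : ∀ x ∈ (P : Subgroup G), x ∉ zpowers z → ∃ j, IsConj x (u j)

theorem exists_reps (P : Sylow 3 G) (z : G) :
    ∃ u : {K : ConjClasses G // ∃ x ∈ (P : Subgroup G), x ∉ zpowers z ∧ ConjClasses.mk x = K} → G,
      Reps P z u := by
  refine ⟨fun K => K.2.choose, fun K => K.2.choose_spec.1, fun K => K.2.choose_spec.2.1,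
    fun K L h => Subtype.ext ?_, fun x hx hZ => ⟨⟨_, x, hx, hZ, rfl⟩, ?_⟩⟩
  · rw [← K.2.choose_spec.2.2, ← L.2.choose_spec.2.2]
    exact ConjClasses.mk_eq_mk_iff_isConj.2 h
  · exact ConjClasses.mk_eq_mk_iff_isConj.1 (Exists.choose_spec
      (p := fun y => y ∈ (P : Subgroup G) ∧ y ∉ zpowers z ∧ ConjClasses.mk y = ConjClasses.mk x)
      ⟨x, hx, hZ, rfl⟩).2.2.symm

variable [Finite G]

/-- The kernel of the principal block. -/
noncomputable def KK (M : Ideal AlgInt) (x y : G) : ℂ :=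
  ∑ χ ∈ bf (principalBlock M G), (χ : G → ℂ) x * conj ((χ : G → ℂ) y)

theorem KK_inv (x y : G) : KK M x⁻¹ y⁻¹ = conj (KK M x y) := by
  simp only [KK, map_sum, map_mul, char_inv (irr_isCharacter _)]

theorem KK_swap (x y : G) : KK M y x = conj (KK M x y) := by
  simp only [KK, map_sum, map_mul, Complex.conj_conj, mul_comm]

theorem KK_eq_zero (hM : IsPModular 3 M) {x y w v : G} (hx : IsPPart 3 x w) (hy : IsPPart 3 y v)
    (h : ¬ IsConj w v) : KK M x y = 0 := by
  rw [KK, ← finsum_bf]; exact block_orth_conj hM isPBlock_principalBlock hx hy h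

theorem exists_conj_mem (P : Sylow 3 G) {x : G} (hx : ∃ k, orderOf x = 3 ^ k) :
    ∃ y ∈ (P : Subgroup G), IsConj x y := by
  obtain ⟨Q, hQ⟩ := (isPGroup_zpowers_of_pElt Nat.prime_three hx).exists_le_sylow
  obtain ⟨g, rfl⟩ := MulAction.exists_smul_eq G Q P
  exact ⟨g * x * g⁻¹, ⟨x, hQ (mem_zpowers x), rfl⟩, isConj_iff.2 ⟨g, rfl⟩⟩

theorem height_zero_iff (hM : IsPModular 3 M) {χ : IrrCharacter G} (hχ : χ ∈ principalBlock M G) :
    blockHeight 3 (principalBlock M G) (χ : G → ℂ) = 0 ↔ ¬ (3 : ℤ) ∣ charDegree (χ : G → ℂ) := by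
  have h0 := minv_le (p := 3) (irrOne_mem_principalBlock (G := G) hM)
  have h1 := minv_add_height (p := 3) hχ
  have h2 : charDegree (irrOne G : G → ℂ) = 1 := by simp [charDegree, irrOne_apply]
  rw [h2, Nat.factorization_one] at h0
  rw [show (3 : ℤ) = (3 : ℕ) from rfl, Int.natCast_dvd_natCast,
    Nat.prime_three.dvd_iff_one_le_factorization (charDegree_ne_zero χ.2)]
  simp only [Finsupp.coe_zero, Pi.zero_apply] at h0
  omega

/-- The integer value of a character at `u`. -/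
noncomputable def cv (u : J → G) (j : J) (χ : IrrCharacter G) : ℤ := ⌊((χ : G → ℂ) (u j)).re⌋

/-- The degree as an integer. -/
noncomputable def dg (χ : IrrCharacter G) : ℤ := charDegree (χ : G → ℂ)

omit [Finite G] in
theorem dg_cast (χ : IrrCharacter G) : (dg χ : ℂ) = (χ : G → ℂ) 1 := by
  rw [dg, Int.cast_natCast, charDegree_eq (irr_isCharacter χ)]

theorem dg_pos (χ : IrrCharacter G) : 0 < dg χ :=
  Int.natCast_pos.2 (Nat.pos_of_ne_zero (charDegree_ne_zero χ.2))

namespace Hyp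

variable {P : Sylow 3 G} {z : G} (H : Hyp P z)
include H

theorem val (hM : IsPModular 3 M) {u g w : G} (hu : u ∈ (P : Subgroup G)) (hZ : u ∉ zpowers z)
    (hg : IsPPart 3 g w) (hw : IsConj w u) {χ : IrrCharacter G} (hχ : χ ∈ principalBlock M G) :
    (χ : G → ℂ) g = (χ : G → ℂ) u := by
  obtain ⟨c, rfl⟩ := isConj_iff.1 hw
  obtain ⟨k, hk⟩ := index_pPrimeCore_of_hasNormalPComplement (H.npc hu hZ)
  rw [← principal_eq_of_isPPart hM (isPPart_conj hg c) hk hχ, irr_isClassFunction χ]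

theorem KK_out (hM : IsPModular 3 M) {u x y w v : G} [Decidable (IsConj w u)] (hu : u ∈ (P : Subgroup G))
    (hZ : u ∉ zpowers z) (hx : IsPPart 3 x w) (hy : IsPPart 3 y v) (hv : IsConj v u) :
    KK M x y = if IsConj w u then (9 : ℂ) else 0 := by
  obtain ⟨k, hk⟩ := index_pPrimeCore_of_hasNormalPComplement (H.npc hu hZ)
  have h1 := (H.sylowIn hu hZ).card_eq_pow
  rw [H.card_V hu hZ] at h1
  have := sum_principal_mul_conj_of_index hM (H.pElt hu) hk hx
  rw [← Nat.cast_pow, ← h1] at this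
  rw [KK, Finset.sum_congr rfl fun χ hχ => by rw [H.val hM hu hZ hy hv (mem_bf.1 hχ)]]
  exact this.trans (by split_ifs <;> simp)

theorem isConj_sub {x y : Cu z} (hx : ∃ k, orderOf x = 3 ^ k) (h : IsConj (x : G) y) :
    IsConj x y := by
  have hy : ∃ k, orderOf y = 3 ^ k := by
    obtain ⟨c, hc⟩ := isConj_iff.1 h
    rwa [← orderOf_coe, ← hc, Blk.orderOf_conj', orderOf_coe]
  obtain ⟨a, ha, hxa⟩ := exists_conj_mem (P.subtype H.le_Cu) hx
  obtain ⟨b, hb, hyb⟩ := exists_conj_mem (P.subtype H.le_Cu) hy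
  obtain ⟨g, hg⟩ := isConj_iff.1
    ((((Cu z).subtype.map_isConj hxa).symm.trans h).trans ((Cu z).subtype.map_isConj hyb))
  obtain ⟨n, hn, h2⟩ := H.control (x := a) (g := g) ha (by erw [hg]; exact hb)
  exact (hxa.trans (isConj_iff.2 ⟨⟨n, H.norm hn⟩, Subtype.ext (h2.symm.trans hg)⟩)).trans hyb.symm

omit [Finite G] in
theorem mem_Z_sub {x : Cu z} : x ∈ zpowers (uC z) ↔ (x : G) ∈ zpowers z :=
  ⟨fun ⟨n, hn⟩ => ⟨n, congrArg Subtype.val hn⟩, fun ⟨n, hn⟩ => ⟨n, Subtype.ext hn⟩⟩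

/-- The kernels of the principal blocks of `G` and `C(z)` agree. -/
theorem KK_sub (hM : IsPModular 3 M) {x : Cu z} (hx : 3 ∣ orderOf x) (y : Cu z) :
    KK M (x : G) y = KK M x y := by
  classical
  have aux : ∀ x y : Cu z, IsPPart 3 x (uC z) → IsPPart 3 y (uC z) → KK M (x : G) y = KK M x y :=
    fun x y hx hy =>
      sum_principal_mul_conj_eq hM (x := z) (u := x) (v := y) (isPPart_coe hx) (isPPart_coe hy)
  obtain ⟨w, hw⟩ := exists_isPPart Nat.prime_three x
  obtain ⟨v, hv⟩ := exists_isPPart Nat.prime_three y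
  by_cases hc : IsConj w v
  swap
  · rw [KK_eq_zero hM hw hv hc, KK_eq_zero hM (isPPart_coe hw) (isPPart_coe hv)
      fun h => hc (H.isConj_sub (isPPart_pElt hw) h)]
  obtain ⟨a, ha, hva⟩ := exists_conj_mem (P.subtype H.le_Cu) (isPPart_pElt hv)
  by_cases hZ : a ∈ zpowers (uC z)
  · have key : ∀ t, IsConj t a → t = a := fun t ht => by
      obtain ⟨c, rfl⟩ := isConj_iff.1 ht.symm
      exact conj_of_Cu (mem_Cu.2 (uC_comm z c)) hZ
    obtain rfl := key _ (hc.trans hva)
    obtain rfl := key _ hva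
    rcases H.sub.mem_Z.1 hZ with rfl | rfl | rfl
    · exact absurd hx (not_dvd_orderOf_of_isPPart_one hw)
    · exact aux x y hw hv
    · have := aux _ _ (by simpa using isPPart_inv hw) (by simpa using isPPart_inv hv)
      rw [coe_inv, coe_inv, KK_inv, KK_inv] at this
      exact star_injective this
  · rw [H.sub.KK_out hM ha hZ hw hv hva, if_pos (hc.trans hva),
      H.KK_out hM (u := a) ha (fun h => hZ (H.mem_Z_sub.2 h)) (isPPart_coe hw) (isPPart_coe hv)
        ((Cu z).subtype.map_isConj hva)]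
    exact if_pos ((Cu z).subtype.map_isConj (hc.trans hva))

variable {u : J → G} (R : Reps P z u)
include R

theorem reps_sub : Reps (P.subtype H.le_Cu) (uC z) fun j => ⟨u j, H.le_Cu (R.mem j)⟩ where
  mem j := R.mem j
  out j h := R.out j (H.mem_Z_sub.1 h)
  inj j l h := R.inj j l ((Cu z).subtype.map_isConj h)
  cover x hx hZ := by
    obtain ⟨j, hj⟩ := R.cover x hx fun h => hZ (H.mem_Z_sub.2 h)
    exact ⟨j, H.isConj_sub (H.sub.pElt hx) hj⟩

theorem pcl {w : G} (hw : ∃ k, orderOf w = 3 ^ k) :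
    (∃ t ∈ zpowers z, IsConj w t) ∨ ∃ j, IsConj w (u j) := by
  obtain ⟨y, hy, h⟩ := exists_conj_mem P hw
  by_cases hZ : y ∈ zpowers z
  · exact Or.inl ⟨y, hZ, h⟩
  · obtain ⟨j, hj⟩ := R.cover y hy hZ
    exact Or.inr ⟨j, h.trans hj⟩

theorem not_conj (j : J) {t : G} (ht : t ∈ zpowers z) : ¬ IsConj (u j) t := fun h => by
  obtain ⟨c, rfl⟩ := isConj_iff.1 h
  exact H.conj_notMem (R.mem j) (R.out j) ht

theorem kk_eq (hM : IsPModular 3 M) [Fintype J] :
    kk M G = ll 3 M G + 2 * ll 3 M (Cu z) + Fintype.card J := by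
  classical
  have := Fintype.ofFinite G
  have hZ : ∀ s ∈ zpowers z, ∀ t ∈ zpowers z, IsConj s t → s = t := fun s hs t ht h => by
    obtain ⟨c, rfl⟩ := isConj_iff.1 h
    exact (H.weak' hs (H.zle ht)).symm
  have hX : ∀ x, x ∈ insert 1 (insert z (insert z⁻¹ (Finset.univ.image u))) ↔
      x ∈ zpowers z ∨ ∃ j, u j = x := fun x => by simp [H.mem_Z, or_assoc]
  have hu : ∀ t ∈ zpowers z, t ∉ Finset.univ.image u := fun t ht h => by
    obtain ⟨j, -, rfl⟩ := Finset.mem_image.1 h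
    exact R.out j ht
  rw [kk_eq_sum_reps hM (X := insert 1 (insert z (insert z⁻¹ (Finset.univ.image u)))),
    Finset.sum_insert, Finset.sum_insert, Finset.sum_insert (hu _ (by simp)),
    Finset.sum_image fun j _ l _ (h : u j = u l) => R.inj j l (h ▸ IsConj.refl _), ll_Ce_one hM,
    Finset.sum_congr rfl fun j _ => (ll_eq_one_iff hM).2 (H.npc (R.mem j) (R.out j)),
    show Ce z⁻¹ = Cu z from centralizer_singleton_inv z]
  · simp only [Finset.sum_const, Finset.card_univ, smul_eq_mul]; ring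
  · simpa [H.inv_ne.symm] using hu z (mem_zpowers z)
  · simpa [H.ne.symm, H.ne] using hu 1 (one_mem _)
  refine ⟨fun x hx => H.pElt ?_, fun g hg => existsUnique_of_exists_of_unique ?_ ?_⟩
  · rcases (hX x).1 hx with h | ⟨j, rfl⟩
    exacts [H.zle h, R.mem j]
  · rcases H.pcl R hg with ⟨t, ht, h⟩ | ⟨j, h⟩
    exacts [⟨t, (hX t).2 (Or.inl ht), h⟩, ⟨u j, (hX _).2 (Or.inr ⟨j, rfl⟩), h⟩]
  · rintro x y ⟨hx, h1⟩ ⟨hy, h2⟩
    have h := h1.symm.trans h2
    rcases (hX x).1 hx with hx | ⟨j, rfl⟩ <;> rcases (hX y).1 hy with hy | ⟨l, rfl⟩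
    exacts [hZ _ hx _ hy h, absurd h.symm (H.not_conj R l hx), absurd h (H.not_conj R j hy),
      by rw [R.inj j l h]]

theorem card_J [Fintype J] : Fintype.card J *
    ((P : Subgroup G) ⊔ Cz (P : Subgroup G)).relIndex (Nz (P : Subgroup G)) = 8 := by
  classical
  have := Fintype.ofFinite G
  have h1 : (Finset.univ.filter (· ∈ (P : Subgroup G)) \ Finset.univ.filter (· ∈ zpowers z)) =
      Finset.univ.biUnion fun j => Finset.univ.filter (· ∈ Abel2.orb (Nz (P : Subgroup G)) (u j)) := by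
    ext x
    simp only [Finset.mem_sdiff, Finset.mem_filter, Finset.mem_univ, true_and, Finset.mem_biUnion]
    refine ⟨fun ⟨hx, hZ⟩ => ?_, fun ⟨j, n, hn, h⟩ => h ▸ ⟨conj_mem_of_mem_normalizer hn (R.mem j),
      H.conj_notMem (R.mem j) (R.out j)⟩⟩
    obtain ⟨j, hj⟩ := R.cover x hx hZ
    obtain ⟨c, rfl⟩ := isConj_iff.1 hj.symm
    obtain ⟨n, hn, h⟩ := H.control (R.mem j) hx
    exact ⟨j, n, hn, h.symm⟩
  have h2 := congrArg Finset.card h1
  rw [Finset.card_sdiff_of_subset fun x hx => by simpa using H.zle (by simpa using hx),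
    Finset.card_biUnion, ← Nat.card_eq_finsetCard, ← Nat.card_eq_finsetCard,
    Finset.sum_congr rfl fun j _ => (Set.ncard_coe_finset _).symm.trans
      ((congrArg Set.ncard (by ext; simp)).trans (H.ncard_orb (R.mem j) (R.out j)))] at h2
  · have e1 := (Nat.card_congr (Equiv.subtypeEquivRight (q := (· ∈ (P : Subgroup G))) (p := (· ∈ Finset.univ.filter (· ∈ (P : Subgroup G))))
      fun x => by simp)).trans H.card
    have e2 := (Nat.card_congr (Equiv.subtypeEquivRight (q := (· ∈ zpowers z)) (p := (· ∈ Finset.univ.filter (· ∈ zpowers z)))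
      fun x => by simp)).trans ((Nat.card_zpowers z).trans (H.order H.mem H.ne))
    rw [e1, e2, Finset.sum_const, Finset.card_univ, smul_eq_mul] at h2
    nlinarith
  · intro j _ l _ hjl
    refine Finset.disjoint_left.2 fun x hj hl => hjl (R.inj j l ?_)
    obtain ⟨a, -, ha⟩ := (Finset.mem_filter.1 hj).2
    obtain ⟨b, -, hb⟩ := (Finset.mem_filter.1 hl).2
    exact (isConj_iff.2 ⟨a, ha⟩).trans (isConj_iff.2 ⟨b, hb⟩).symm

theorem ppart (j : J) : IsPPart 3 (u j) (u j) := isPPart_self Nat.prime_three (H.pElt (R.mem j))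

variable (hr : ∀ j, IsConj (u j) (u j)⁻¹)
include hr

theorem cv_cast (j : J) (χ : IrrCharacter G) : (cv u j χ : ℂ) = (χ : G → ℂ) (u j) := by
  have h3 := H.exp _ (R.mem j)
  obtain ⟨n, hn⟩ := exists_int_of_pow_eq (isGenChar_of_isIrr χ.2) (u j) fun k hk => by
    have h27 := (P : Subgroup G).card_subgroup_dvd_card
    rw [H.card] at h27
    have hk3 : ¬ 3 ∣ k := fun h => absurd (Nat.eq_one_of_dvd_coprimes hk h
      (Dvd.dvd.trans (by norm_num) h27)) (by norm_num)
    rw [pow_eq_pow_mod k h3]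
    obtain h | h : k % 3 = 1 ∨ k % 3 = 2 := by omega
    · rw [h, pow_one]
    · obtain ⟨c, hc⟩ := isConj_iff.1 (hr j)
      rw [h, show u j ^ 2 = (u j)⁻¹ from eq_inv_of_mul_eq_one_left (by rw [← pow_succ, h3]), ← hc,
        irr_isClassFunction χ]
  rw [cv, hn]; simp

theorem cols (hM : IsPModular 3 M) [DecidableEq J] [DecidableEq (IrrCharacter G)] :
    Cols (bf (principalBlock M G)) (cv u) dg (irrOne G) where
  mem := mem_bf.2 (irrOne_mem_principalBlock hM)
  one j := by simp [cv, irrOne_apply]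
  cong j χ _ := by
    have := li_char_mul_sub hM (irr_isCharacter χ) (H.pElt (R.mem j)) (y := 1) (by simp)
    rw [mul_one, ← H.cv_cast R hr, ← dg_cast, ← Int.cast_sub] at this
    exact_mod_cast (li_intCast_iff hM _).1 this
  orth j l := by
    classical
    have := H.KK_out hM (R.mem l) (R.out l) (H.ppart R j) (H.ppart R l) (IsConj.refl _)
    simp only [KK, ← H.cv_cast R hr, map_intCast] at this
    by_cases h : j = l
    · subst h; rw [if_pos (IsConj.refl _)] at this; rw [if_pos rfl]; exact_mod_cast this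
    · rw [if_neg fun h' => h (R.inj j l h')] at this; rw [if_neg h]; exact_mod_cast this

theorem cv_dg (hM : IsPModular 3 M) (j : J) :
    ∑ χ ∈ bf (principalBlock M G), cv u j χ * dg χ = 0 := by
  have := KK_eq_zero hM (H.ppart R j) (isPPart_self (x := 1) Nat.prime_three ⟨0, by simp⟩)
    (H.not_conj R j (one_mem _))
  simp only [KK, ← H.cv_cast R hr, ← dg_cast, map_intCast] at this
  exact_mod_cast this

end Hyp

end CfsgLib.E27
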