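import Mathlib
import Cfsg.Agent.Lib.E27.Col

/-!
# Class functions equivariant under a central element of order three
-/

set_option autoImplicit false

namespace CfsgLib.E27

open Cfsg Subgroup CfsgLib.Block CfsgLib.Blk CfsgLib.Char
open scoped ComplexConjugate

section lat
open Finset
variable {ι J : Type*} [DecidableEq ι] [DecidableEq J] {S : Finset ι} {c : J → ι → ℤ} {d : ι → ℤ}
  {o : ι} (C : Cols S c d o)
include C

theorem Cols.T_ne_two (j : J) (hd : d o = 1) (h0 : ∑ χ ∈ S, c j χ * d χ = 0) :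
    (Ts S (c j)).card ≠ 2 := fun h => by
  have h1 := C.card_H j
  have ho : o ∈ Hs S d \ Ts S (c j) := by simp [Hs, Ts, C.mem, hd, C.one]
  obtain ⟨a, ha⟩ := card_eq_one.1 (show (Hs S d \ Ts S (c j)).card = 1 by
    rw [card_sdiff_of_subset (C.T_sub j)]; omega)
  rw [← add_sum_erase _ _ C.mem, C.one, hd] at h0
  have : 2 ∣ ∑ χ ∈ S.erase o, c j χ * d χ := dvd_sum fun χ hχ => Dvd.dvd.mul_right (by
    obtain ⟨h2, h3⟩ := mem_erase.1 hχ
    by_cases h4 : χ ∈ Ts S (c j)
    · exact Int.prime_two.dvd_of_dvd_pow (n := 2) (by rw [(mem_filter.1 h4).2]; norm_num)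
    · rw [(C.eq_zero_iff j h3).2 (by_contra fun h5 => h2 (by
        have : χ ∈ Hs S d \ Ts S (c j) := mem_sdiff.2 ⟨mem_filter.2 ⟨h3, h5⟩, h4⟩
        rw [ha, mem_singleton] at this ho
        rw [this, ho]))]
      simp) _
  omega

theorem Cols.T_ne_zero (j : J) (m : ι → ℤ) (h0 : ∀ χ ∈ Hs S d, m χ ≠ 0)
    (h1 : ∑ χ ∈ Hs S d, m χ ^ 2 = 9) (h2 : ∑ χ ∈ Hs S d, m χ * c j χ = 0) :
    (Ts S (c j)).card ≠ 0 := fun h => by
  have h3 := C.card_H j
  have h4 : ∀ χ ∈ Hs S d, 0 ≤ m χ ^ 2 - 1 := fun χ hχ => by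
    have := sq_pos_of_ne_zero (h0 χ hχ); omega
  have h5 := (sum_eq_zero_iff_of_nonneg h4).1 (by
    rw [sum_sub_distrib, h1, sum_const, nsmul_eq_mul]; omega)
  have : 2 ∣ ∑ χ ∈ Hs S d, (m χ * c j χ - 1) := dvd_sum fun χ hχ => by
    have h6 := C.val j (filter_subset _ _ hχ)
    rw [if_pos hχ, card_eq_zero.1 h, if_neg (notMem_empty _)] at h6
    rcases sq_eq_one_iff.1 (sub_eq_zero.1 (h5 χ hχ)) with h7 | h7 <;>
      rw [h7] <;> unfold sg at h6 <;> split_ifs at h6 <;> omega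
  rw [sum_sub_distrib, h2, sum_const, nsmul_eq_mul] at this
  omega

theorem Cols.span [Fintype J] (h1 : ∀ j, (Ts S (c j)).card = 1) {j₀ : J} {s : ι}
    (hs : s ∈ Ts S (c j₀)) (y : ι → ℂ) (hy : ∀ j, ∑ χ ∈ Hs S d, y χ * c j χ = 0)
    (hp : ∀ i ∈ Pl S c, sg (d i) * y i = sg (d s) * y s) : ∀ χ ∈ Hs S d, y χ = 0 := by
  have h2 : ∀ j, ∀ t ∈ Ts S (c j), ∑ χ ∈ Hs S d, sg (d χ) * y χ = 3 * (sg (d t) * y t) := by
    intro j t ht
    obtain ⟨a, ha⟩ := card_eq_one.1 (h1 j)
    have : ∀ χ ∈ Hs S d, y χ * c j χ =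
        sg (d χ) * y χ - 3 * if χ = t then sg (d χ) * y χ else 0 := fun χ hχ => by
      have h3 := C.val j (filter_subset _ _ hχ)
      have h4 : (sg (d χ) * sg (d χ) : ℂ) = 1 := by exact_mod_cast sg_sq (d χ)
      rw [ha, mem_singleton] at ht
      rw [if_pos hχ, ha, ← ht] at h3
      have h5 := congrArg (Int.cast (R := ℂ)) h3
      simp only [mem_singleton] at h5
      split_ifs at h5 ⊢ <;> push_cast at h5 <;>
        linear_combination y χ * sg (d χ) * h5 - y χ * c j χ * h4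
    have h3 := hy j
    rw [sum_congr rfl this, sum_sub_distrib, ← mul_sum, sum_ite_eq', if_pos (C.T_sub j ht)] at h3
    exact sub_eq_zero.1 h3
  have h3 : ∀ χ ∈ Hs S d, sg (d χ) * y χ = sg (d s) * y s := fun χ hχ => by
    by_cases h : ∀ j, χ ∉ Ts S (c j)
    · exact hp χ ((C.mem_Pl j₀).2 ⟨hχ, h⟩)
    · push Not at h
      obtain ⟨j, hj⟩ := h
      linear_combination (h2 j₀ s hs - h2 j χ hj) / 3
  have h4 := h2 j₀ s hs
  have h5 := C.card_H j₀
  rw [sum_congr rfl h3, sum_const, show (Hs S d).card = 6 by have := h1 j₀; omega,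
    nsmul_eq_mul] at h4
  intro χ hχ
  have h6 : (sg (d χ) * sg (d χ) : ℂ) = 1 := by exact_mod_cast sg_sq (d χ)
  push_cast at h4
  linear_combination sg (d χ) * h3 χ hχ + sg (d χ) * h4 / 3 - y χ * h6

end lat

theorem tri {ζ η : ℂ} (hζ : ζ ^ 3 = 1) (hη : η ^ 3 = 1) :
    1 + ζ * conj η + (ζ * conj η) ^ 2 = if ζ = η then 3 else 0 := by
  have h1 : conj η = η ^ 2 := conj_eq_pow_of_pow_eq_one (n := 3) (by norm_num) hη
  rw [h1]
  split_ifs with h
  · subst h; linear_combination (2 + ζ ^ 3) * hζ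
  · refine mul_left_cancel₀ (sub_ne_zero.2 h) ?_
    linear_combination η ^ 4 * hζ + (η - ζ - η ^ 2 * ζ ^ 2) * hη

variable {G : Type*} [Group G]

/-- Extension of a function on regular elements to the sections of `1, z, z⁻¹`. -/
def FF (z : G) (ζ : ℂ) (g : G → ℂ) : G → ℂ := fun x => g x + ζ * g (z⁻¹ * x) + ζ ^ 2 * g (z * x)

/-- Equivariance under translation by `z`. -/
def Eqv (z : G) (η : ℂ) (h : G → ℂ) : Prop := ∀ x, h (z * x) = η * h x

theorem inner_shift [Fintype G] (a : G) (g h : G → ℂ) :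
    classInner (fun x => g (a⁻¹ * x)) h = classInner g fun x => h (a * x) := by
  rw [← classInner_comp_equiv (Equiv.mulLeft a)]; simp

theorem inner_FF' [Fintype G] (z : G) (ζ : ℂ) (g h : G → ℂ) : classInner (FF z ζ g) h =
    classInner g h + ζ * classInner g (fun x => h (z * x)) +
      ζ ^ 2 * classInner g fun x => h (z⁻¹ * x) := by
  rw [← inner_shift, ← inner_shift, ← classInner_smul_left, ← classInner_smul_left,
    ← classInner_add_left, ← classInner_add_left, inv_inv]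
  rfl

theorem isClassFunction_FF {z : G} (hz : z ∈ center G) (ζ : ℂ) {g : G → ℂ}
    (hg : IsClassFunction G g) : IsClassFunction G (FF z ζ g) := fun x y => by
  have : ∀ t ∈ center G, g (t * (y * x * y⁻¹)) = g (t * x) := fun t ht => by
    rw [← hg (t * x) y, ← mul_assoc y, mem_center_iff.1 ht y]; simp [mul_assoc]
  simp only [FF, this z hz, this _ (inv_mem hz), hg x y]

namespace Hyp

variable {P : Sylow 3 G} {z : G} (H : Hyp P z)
include H

theorem inner_FF [Fintype G] {ζ η : ℂ} (hζ : ζ ^ 3 = 1) (hη : η ^ 3 = 1) (g : G → ℂ) {h : G → ℂ}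
    (hh : Eqv z η h) : classInner (FF z ζ g) h = (if ζ = η then 3 else 0) * classInner g h := by
  rw [inner_FF', ← tri hζ hη, show (fun x => h (z * x)) = η • h from funext hh,
    show (fun x => h (z⁻¹ * x)) = η ^ 2 • h from funext fun x => by
      rw [← H.sq, mul_assoc, hh, hh, Pi.smul_apply, smul_eq_mul]; ring,
    classInner_smul_right, classInner_smul_right, map_pow]
  ring

theorem eqv_FF {ζ : ℂ} (hζ : ζ ^ 3 = 1) (g : G → ℂ) : Eqv z ζ (FF z ζ g) := fun x => by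
  simp only [FF, ← mul_assoc, H.sq, inv_mul_cancel, one_mul]
  linear_combination -g (z * x) * hζ

variable (hz : z ∈ center G)
include hz

theorem sing {x w t : G} (hx : IsPPart 3 x w) (ht : t ∈ zpowers z) (h : t * w ≠ 1) :
    3 ∣ orderOf (t * x) := by_contra fun h1 => h <| by
  have := isPPart_mul (mem_center_iff.1 (zpowers_le.2 hz (inv_mem ht)) (t * x)).symm
    (H.pElt (H.zle (inv_mem ht))) h1
  rw [inv_mul_cancel_left] at this
  rw [isPPart_unique Nat.prime_three hx this, mul_inv_cancel]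

theorem FF_reg (ζ : ℂ) (g : G → ℂ) {x : G} (hx : ¬ 3 ∣ orderOf x) :
    FF z ζ (pRegularPart 3 g) x = g x := by
  rw [FF, pRegularPart_of_reg hx, pRegularPart_of_sing (H.sing hz (isPPart_one hx) (by simp)
    (by simpa using H.ne)), pRegularPart_of_sing (H.sing hz (isPPart_one hx) (by simp)
    (by simpa using H.ne))]
  simp

theorem reg_FF (ζ : ℂ) (g : G → ℂ) :
    pRegularPart 3 (FF z ζ (pRegularPart 3 g)) = pRegularPart 3 g := funext fun x => by
  by_cases hx : 3 ∣ orderOf x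
  · rw [pRegularPart_of_sing hx, pRegularPart_of_sing hx]
  · rw [pRegularPart_of_reg hx, pRegularPart_of_reg hx, H.FF_reg hz _ _ hx]

theorem FF_out (ζ : ℂ) (g : G → ℂ) {x w : G} (hx : IsPPart 3 x w) (hw : w ∉ zpowers z) :
    FF z ζ (pRegularPart 3 g) x = 0 := by
  have : ∀ t ∈ zpowers z, pRegularPart 3 g (t * x) = 0 := fun t ht => pRegularPart_of_sing
    (H.sing hz hx ht fun h => hw (eq_inv_of_mul_eq_one_right h ▸ inv_mem ht))
  have h1 := this 1 (one_mem _)
  rw [one_mul] at h1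
  simp [FF, h1, this]

theorem FF_in {η : ℂ} {g : G → ℂ} (hg : Eqv z η g) {x w : G} (hx : IsPPart 3 x w)
    (hw : w ∈ zpowers z) : FF z η (pRegularPart 3 g) x = g x := by
  have h1 : pRegularPart 3 g (w⁻¹ * x) = g (w⁻¹ * x) := pRegularPart_of_reg (by
    obtain ⟨y, rfl, -, -, hy⟩ := hx; rwa [inv_mul_cancel_left])
  have h2 : ∀ t ∈ zpowers z, t * w ≠ 1 → pRegularPart 3 g (t * x) = 0 := fun t ht h =>
    pRegularPart_of_sing (H.sing hz hx ht h)
  have h3 := h2 1 (one_mem _)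
  rw [one_mul, one_mul] at h3
  rcases H.mem_Z.1 hw with rfl | rfl | rfl
  · exact H.FF_reg hz _ _ (not_dvd_orderOf_of_isPPart_one hx)
  · rw [FF, h1, h3 H.ne, h2 w hw (by simpa [H.sq] using H.ne), ← hg]; simp
  · rw [inv_inv] at h1
    rw [FF, h1, h3 (by simpa using H.ne), h2 _ hw (by simpa [← mul_inv_rev, H.sq] using H.ne),
      pow_two, mul_assoc, ← hg, ← hg, ← mul_assoc, H.sq]
    simp

end Hyp

end CfsgLib.E27
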