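import Mathlib
import Cfsg.Agent.Lib.E27.Shift

/-!
# Principal 3-blocks with Sylow subgroup `3^{1+2}`: the case of a central `z`
-/

set_option autoImplicit false

namespace CfsgLib.E27

open Cfsg Subgroup CfsgLib.Block CfsgLib.Blk CfsgLib.Char
open scoped ComplexConjugate

variable {G : Type*} [Group G] [Fintype G] {J : Type*} {M : Ideal AlgInt}

/-- The scalar by which `z` acts. -/
noncomputable def sc (z : G) (ξ : IrrCharacter G) : ℂ := (ξ : G → ℂ) z / (ξ : G → ℂ) 1

theorem eqv_irr {z : G} (hz : z ∈ center G) (ξ : IrrCharacter G) : Eqv z (sc z ξ) ξ :=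
  irr_central_mul ξ.2 hz

theorem minv_zero (hM : IsPModular 3 M) : minv 3 (principalBlock M G) = 0 := by
  have h0 := minv_le (p := 3) (irrOne_mem_principalBlock (G := G) hM)
  have h2 : charDegree (irrOne G : G → ℂ) = 1 := by simp [charDegree, irrOne_apply]
  rw [h2, Nat.factorization_one] at h0
  exact Nat.le_zero.1 h0

theorem dg_one : dg (irrOne G) = 1 := by simp [dg, charDegree, irrOne_apply]

theorem apply_eq_sum {B : Set (IrrCharacter G)} {θ : G → ℂ} (h : blockPart B θ = θ) (x : G) :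
    θ x = ∑ χ ∈ bf B, classInner θ (χ : G → ℂ) * (χ : G → ℂ) x := by
  nth_rw 1 [← h, blockPart_bf]; simp

theorem exists_omega : ∃ ω : ℂ, ω ^ 3 = 1 ∧ ω ≠ 1 :=
  ⟨_, (Complex.isPrimitiveRoot_exp 3 (by norm_num)).pow_eq_one,
    (Complex.isPrimitiveRoot_exp 3 (by norm_num)).ne_one (by norm_num)⟩

/-- Generalized characters of the principal block vanishing on regular elements. -/
structure Good (M : Ideal AlgInt) (a : G → ℂ) : Prop where
  gen : IsGeneralizedCharacter G a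
  blk : blockPart (principalBlock M G) a = a
  van : ∀ y, ¬ 3 ∣ orderOf y → a y = 0

namespace Hyp

variable {P : Sylow 3 G} {z : G} (H : Hyp P z)
include H

theorem defect (hM : IsPModular 3 M) : blockDefect 3 (principalBlock M G) = 3 := by
  have := P.card_eq_multiplicity
  rw [H.card] at this
  rw [blockDefect_principalBlock hM]
  exact (Nat.pow_right_injective (a := 3) (by norm_num) (a₁ := 3) this).symm

theorem mm_int (hM : IsPModular 3 M) {θ : G → ℂ} (hθ : IsGeneralizedCharacter G θ)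
    (hb : blockPart (principalBlock M G) θ = θ) {n : ℤ} (hn : θ 1 = (3 * n : ℤ))
    {ξ : IrrCharacter G} (hξ : ξ ∈ principalBlock M G) (h3 : 3 ∣ dg ξ) :
    ∃ k : ℤ, 3 * mm 3 θ ξ = k := by
  obtain ⟨m, h1, h2⟩ := exists_aa_eq hM hξ hθ
  have h4 := blockPart_one_eq_rb Nat.prime_three (principalBlock M G) θ
  rw [hb, minv_zero hM, pow_zero, one_mul, hn] at h4
  obtain ⟨m, rfl⟩ := h2.2 ((li_wt_reg_iff_li_rb hM isPBlock_principalBlock hξ hθ).2
    (h4 ▸ (li_intCast_iff hM _).2 (dvd_mul_right _ _)))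
  obtain ⟨h, hh⟩ := Nat.exists_eq_succ_of_ne_zero fun h => (height_zero_iff hM hξ).1 h h3
  have h5 := aa_cast hξ hθ (p := 3)
  rw [h1, hh, H.defect hM, mm_comm (isGenChar_of_isIrr ξ.2) hθ] at h5
  exact ⟨3 ^ h * m, by push_cast [pow_succ] at h5 ⊢; linear_combination -h5 / 9⟩

variable (hz : z ∈ center G)
include hz

theorem sc_pow (ξ : IrrCharacter G) : sc z ξ ^ 3 = 1 := by
  rw [← H.order H.mem H.ne]; exact irr_central_root ξ.2 hz

theorem inner_FF_irr {ζ : ℂ} (hζ : ζ ^ 3 = 1) (g : G → ℂ) (ξ : IrrCharacter G) :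
    classInner (FF z ζ (pRegularPart 3 g)) ξ = (if ζ = sc z ξ then 3 else 0) * mm 3 g ξ :=
  H.inner_FF hζ (H.sc_pow hz ξ) _ (eqv_irr hz ξ)

theorem inner_FF_FF {ζ η : ℂ} (hζ : ζ ^ 3 = 1) (hη : η ^ 3 = 1) (g h : G → ℂ) :
    classInner (FF z ζ (pRegularPart 3 g)) (FF z η (pRegularPart 3 h)) =
      (if ζ = η then 3 else 0) * mm 3 g h := by
  rw [H.inner_FF hζ hη _ (H.eqv_FF hη _), ← classInner_reg_reg, H.reg_FF hz, mm_eq_both]

theorem blk_FF (hM : IsPModular 3 M) {ζ : ℂ} (hζ : ζ ^ 3 = 1) {g : G → ℂ}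
    (hb : blockPart (principalBlock M G) g = g) :
    blockPart (principalBlock M G) (FF z ζ (pRegularPart 3 g)) = FF z ζ (pRegularPart 3 g) :=
  blockPart_eq_self (isClassFunction_FF hz _ (isClassFunction_pRegularPart
    (hb ▸ isClassFunction_blockPart _ _))) fun ξ hξ => by
      rw [H.inner_FF_irr hz hζ, mm, ← hb, ← blockPart_reg hM isPBlock_principalBlock,
        classInner_blockPart_of_notMem _ hξ, mul_zero]

variable {u : J → G} (R : Reps P z u)
include R

theorem sec (x : G) : ∃ w, IsPPart 3 x w ∧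
    (w ∈ zpowers z ∨ w ∉ zpowers z ∧ ∃ j, IsConj w (u j)) := by
  obtain ⟨w, hw⟩ := exists_isPPart Nat.prime_three x
  refine ⟨w, hw, ?_⟩
  rcases H.pcl R (isPPart_pElt hw) with ⟨t, ht, h⟩ | ⟨j, h⟩
  · obtain ⟨c, rfl⟩ := isConj_iff.1 h.symm
    exact Or.inl (by rwa [conj_of_Cu (mem_Cu.2 (mem_center_iff.1 hz c).symm) ht])
  · exact Or.inr ⟨fun hZ => H.not_conj R j hZ h.symm, j, h⟩

theorem FF_u (ζ : ℂ) (g : G → ℂ) (j : J) : FF z ζ (pRegularPart 3 g) (u j) = 0 :=
  H.FF_out hz ζ g (H.ppart R j) (R.out j)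

variable (hr : ∀ j, IsConj (u j) (u j)⁻¹) (hM : IsPModular 3 M) (j₀ : J)
include hr hM j₀

theorem sc_eq_one {ξ : IrrCharacter G} (hξ : ξ ∈ principalBlock M G) (h : ¬ 3 ∣ dg ξ) :
    sc z ξ = 1 := by
  classical
  have hc := mt ((H.cols R hr hM).eq_zero_iff j₀ (mem_bf.2 hξ)).1 h
  obtain ⟨x, -, hx⟩ := H.exists_conj (R.mem j₀) (R.out j₀) (mem_zpowers z)
  have := eqv_irr hz ξ (u j₀)
  rw [← hx, irr_isClassFunction, ← H.cv_cast R hr] at this
  exact (mul_eq_right₀ (Int.cast_ne_zero.2 hc)).1 this.symm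

omit j₀ in
theorem eq_FF {ξ : IrrCharacter G} (hξ : ξ ∈ principalBlock M G) (h : 3 ∣ dg ξ) :
    FF z (sc z ξ) (pRegularPart 3 ξ) = ξ := funext fun x => by
  classical
  obtain ⟨w, hw, h1 | ⟨h1, j, h2⟩⟩ := H.sec hz R x
  · exact H.FF_in hz (eqv_irr hz ξ) hw h1
  · rw [H.FF_out hz _ _ hw h1, H.val hM (R.mem j) (R.out j) hw h2 hξ, ← H.cv_cast R hr,
      ((H.cols R hr hM).eq_zero_iff j (mem_bf.2 hξ)).2 h, Int.cast_zero]

omit j₀ in
theorem sc_ne_one {ξ : IrrCharacter G} (hξ : ξ ∈ principalBlock M G) (h : 3 ∣ dg ξ) :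
    sc z ξ ≠ 1 := fun h1 => by
  have h0 := irrOne_mem_principalBlock (G := G) hM
  have h2 := H.inner_FF_irr hz (H.sc_pow hz ξ) ξ (irrOne G)
  rw [H.eq_FF hz R hr hM hξ h, classInner_irr_irr, if_neg fun e => by
    rw [e, dg_one] at h; omega, if_pos (by rw [h1]; simp [sc, irrOne_apply])] at h2
  have h3 := pow_le_aa_sq hM isPBlock_principalBlock h0 hξ
    ((height_zero_iff hM h0).2 (by rw [← dg, dg_one]; omega))
  have h4 := aa_cast hξ (isGenChar_of_isIrr (irrOne G).2) (p := 3)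
  rw [(mul_eq_zero.1 h2.symm).resolve_left (by norm_num), mul_zero, Int.cast_eq_zero,
    aa_comm_irr] at h4
  rw [h4] at h3
  exact absurd h3 (not_le.2 (by positivity))

theorem gen_FF {θ : G → ℂ} (hθ : IsGeneralizedCharacter G θ)
    (hb : blockPart (principalBlock M G) θ = θ) {n : ℤ} (hn : θ 1 = (3 * n : ℤ)) {ζ : ℂ}
    (hζ : ζ ^ 3 = 1) (h1 : ζ ≠ 1) : IsGeneralizedCharacter G (FF z ζ (pRegularPart 3 θ)) :=
  isGenChar_of_inner_int (isClassFunction_FF hz _ (isClassFunction_pRegularPart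
    (isClassFunction_of_isGenChar hθ))) fun ξ hξ => by
      lift ξ to IrrCharacter G using hξ
      by_cases h : ξ ∈ principalBlock M G
      · rw [H.inner_FF_irr hz hζ]
        split_ifs with h2
        · exact H.mm_int hM hθ hb hn h
            (by_contra fun h3 => h1 (h2.trans (H.sc_eq_one hz R hr hM j₀ h h3)))
        · exact ⟨0, by simp⟩
      · exact ⟨0, by rw [← H.blk_FF hz hM hζ hb, classInner_blockPart_of_notMem _ h, Int.cast_zero]⟩

omit j₀ in
theorem sum_Hs [DecidableEq (IrrCharacter G)] (g : G → ℂ) (f : IrrCharacter G → ℂ) :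
    ∑ χ ∈ bf (principalBlock M G), classInner (FF z 1 (pRegularPart 3 g)) χ * f χ =
      ∑ χ ∈ Hs (bf (principalBlock M G)) dg, classInner (FF z 1 (pRegularPart 3 g)) χ * f χ := by
  refine (Finset.sum_filter_of_ne (p := fun χ => ¬ 3 ∣ dg χ) fun χ hχ h h3 => h ?_).symm
  rw [H.inner_FF_irr hz (one_pow 3), if_neg (H.sc_ne_one hz R hr hM (mem_bf.1 hχ) h3).symm]
  simp

omit j₀ in
theorem card_T [DecidableEq J] [DecidableEq (IrrCharacter G)] (j : J) :
    (Ts (bf (principalBlock M G)) (cv u j)).card = 1 := by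
  have C := H.cols R hr hM
  have h1 := C.card_H j
  have h2 := C.card_lt j
  have h3 := C.T_ne_two j dg_one (H.cv_dg R hr hM j)
  obtain ⟨f, hf, hf1⟩ : ∃ f ∈ principalBlock M G, sc z f ≠ 1 := by
    by_contra! h
    have h4 := KK_eq_zero hM (isPPart_self Nat.prime_three (H.pElt H.mem))
      (isPPart_self (x := 1) Nat.prime_three ⟨0, by simp⟩) (by simpa using H.ne)
    rw [KK, Finset.sum_congr rfl fun χ hχ => by
      rw [← mul_one z, eqv_irr hz, h χ (mem_bf.1 hχ), one_mul, ← dg_cast, map_intCast,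
        ← Int.cast_mul], ← Int.cast_sum, Int.cast_eq_zero] at h4
    exact (Finset.sum_pos (fun χ _ => mul_pos (dg_pos χ) (dg_pos χ)) ⟨_, C.mem⟩).ne' h4
  have hf3 : 3 ∣ dg f := by_contra fun h => hf1 (H.sc_eq_one hz R hr hM j hf h)
  obtain ⟨h, hh⟩ := Nat.exists_eq_succ_of_ne_zero fun h => (height_zero_iff hM hf).1 h hf3
  have h4 : ∀ χ ∈ Hs (bf (principalBlock M G)) dg, classInner (FF z 1 (pRegularPart 3 f)) χ =
      (aa 3 (principalBlock M G) f χ / 3 : ℤ) / 3 := fun χ hχ => by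
    obtain ⟨h5, h6⟩ := Finset.mem_filter.1 hχ
    obtain ⟨m, hm⟩ := (dvd_pow_self _ (hh ▸ Nat.succ_ne_zero h)).trans
      (pow_height_dvd_aa hf (isGenChar_of_isIrr χ.2) (p := 3))
    have h7 := aa_cast hf (isGenChar_of_isIrr χ.2) (p := 3)
    rw [hm, H.defect hM] at h7
    rw [H.inner_FF_irr hz (one_pow 3), if_pos (H.sc_eq_one hz R hr hM j (mem_bf.1 h5) h6).symm, hm,
      show ((3 : ℕ) : ℤ) * m / 3 = m by simp]
    push_cast at h7
    linear_combination -h7 / 9
  have hb := H.blk_FF hz hM (one_pow 3) (blockPart_irr_of_mem hf)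
  have h5 := C.T_ne_zero j (fun χ => aa 3 (principalBlock M G) f χ / 3) (fun χ hχ h0 => by
    obtain ⟨h5, h6⟩ := Finset.mem_filter.1 hχ
    have h7 := pow_le_aa_sq hM isPBlock_principalBlock (mem_bf.1 h5) hf
      ((height_zero_iff hM (mem_bf.1 h5)).2 h6)
    obtain ⟨m, hm⟩ := (dvd_pow_self _ (hh ▸ Nat.succ_ne_zero h)).trans
      (pow_height_dvd_aa hf (isGenChar_of_isIrr χ.2) (p := 3))
    rw [aa_comm_irr, show aa 3 (principalBlock M G) f χ = 0 by omega] at h7
    exact absurd h7 (not_le.2 (by positivity))) (by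
      have h6 := H.inner_FF_FF hz (H.sc_pow hz f) (H.sc_pow hz f) f f
      have h7 := H.inner_FF_FF hz (one_pow 3) (one_pow 3) f f
      rw [H.eq_FF hz R hr hM hf hf3, classInner_irr_self f.2, if_pos rfl] at h6
      rw [if_pos rfl, ← h6, ← hb, classInner_blockPart_left, hb, H.sum_Hs hz R hr hM,
        Finset.sum_congr rfl fun χ hχ => by rw [h4 χ hχ, map_div₀, map_intCast, map_ofNat]] at h7
      have : ((∑ χ ∈ Hs (bf (principalBlock M G)) dg,
          (aa 3 (principalBlock M G) f χ / 3) ^ 2 : ℤ) : ℂ) = 9 * 1 := by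
        rw [← h7, Finset.mul_sum, Int.cast_sum]
        exact Finset.sum_congr rfl fun χ _ => by rw [Int.cast_pow]; ring
      exact_mod_cast this) (by
      have h6 := apply_eq_sum hb (u j)
      rw [H.FF_u hz R, H.sum_Hs hz R hr hM,
        Finset.sum_congr rfl fun χ hχ => by rw [h4 χ hχ, ← H.cv_cast R hr]] at h6
      have : ((∑ χ ∈ Hs (bf (principalBlock M G)) dg,
          (aa 3 (principalBlock M G) f χ / 3) * cv u j χ : ℤ) : ℂ) = 3 * 0 := by
        rw [h6, Finset.mul_sum, Int.cast_sum]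
        exact Finset.sum_congr rfl fun χ _ => by rw [Int.cast_mul]; ring
      exact_mod_cast this)
  omega

theorem cen [Fintype J] [DecidableEq J] [DecidableEq (IrrCharacter G)] :
    ∃ (κ : Finset (IrrCharacter G)) (γ α : κ → G → ℂ), κ.card + Fintype.card J = 6 ∧
      (∀ i, Good M (γ i)) ∧ (∀ i, Good M (α i)) ∧
      (∀ i k, classInner (γ i) (γ k) = if i = k then 3 else 1) ∧
      (∀ i k, classInner (α i) (α k) = if i = k then 2 else 0) ∧
      (∀ i k, classInner (α i) (γ k) = if i = k then -1 else 0) ∧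
      (∀ i j, γ i (u j) = if j = j₀ then 3 else 0) ∧ (∀ i j, α i (u j) = 0) ∧
      ∀ θ : G → ℂ, (∀ x w j, IsPPart 3 x w → IsConj w (u j) → θ x = 0) →
        (∀ i, classInner (γ i) θ = 0) → (∀ i, classInner (α i) θ = 0) →
        blockPart (principalBlock M G) (fun x => θ (z * x)) 1 = 0 := by
  classical
  have C := H.cols R hr hM
  have hT := H.card_T hz R hr hM
  obtain ⟨s, hs⟩ := Finset.card_eq_one.1 (hT j₀)
  have hs1 : s ∈ Ts (bf (principalBlock M G)) (cv u j₀) := hs ▸ Finset.mem_singleton_self s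
  have hs2 := C.T_sub j₀ hs1
  obtain ⟨ω, hω, hω1⟩ := exists_omega
  have hω2 : (ω ^ 2) ^ 3 = 1 := by linear_combination (ω ^ 3 + 1) * hω
  have hω3 : ω ^ 2 ≠ 1 := fun h => hω1 (by linear_combination hω - ω * h)
  have hω4 : ω ≠ ω ^ 2 := fun h => hω1 (by linear_combination -ω ^ 2 * h - (ω - 1) * hω)
  set κ := Pl (bf (principalBlock M G)) (cv u)
  have hκ : ∀ i : κ, (i : IrrCharacter G) ∈ Hs (bf (principalBlock M G)) dg ∧
    ∀ j, (i : IrrCharacter G) ∉ Ts (bf (principalBlock M G)) (cv u j) := fun i => (C.mem_Pl j₀).1 i.2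
  have hB : ∀ {χ}, χ ∈ Hs (bf (principalBlock M G)) dg → χ ∈ principalBlock M G :=
    fun h => mem_bf.1 (Finset.mem_filter.1 h).1
  have hne : ∀ i : κ, (i : IrrCharacter G) ≠ s := fun i h => (hκ i).2 j₀ (h ▸ hs1)
  obtain ⟨ψ, hψ⟩ : ∃ ψ : κ → G → ℂ, ∀ i, ψ i = (sg (dg i.1) : ℂ) • (i.1 : G → ℂ) -
    (sg (dg s) : ℂ) • (s : G → ℂ) := ⟨_, fun _ => rfl⟩
  have p1 : ∀ i, IsGeneralizedCharacter G (ψ i) := fun i => hψ i ▸ isGenChar_sub
    (isGenChar_intCast_smul _ (isGenChar_of_isIrr i.1.2))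
    (isGenChar_intCast_smul _ (isGenChar_of_isIrr s.2))
  have p2 : ∀ i, blockPart (principalBlock M G) (ψ i) = ψ i := fun i => by
    rw [hψ, blockPart_sub, blockPart_smul, blockPart_smul, blockPart_irr_of_mem (hB (hκ i).1),
      blockPart_irr_of_mem (hB hs2)]
  have p3 : ∀ i, Eqv z 1 (ψ i) := fun i x => by
    simp only [hψ, Pi.sub_apply, Pi.smul_apply, eqv_irr hz _ x, one_mul,
      H.sc_eq_one hz R hr hM j₀ (hB (hκ i).1) (Finset.mem_filter.1 (hκ i).1).2,
      H.sc_eq_one hz R hr hM j₀ (hB hs2) (Finset.mem_filter.1 hs2).2]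
  have p4' : ∀ (i : κ) j, sg (dg i.1) * cv u j i - sg (dg s) * cv u j s =
      if j = j₀ then 3 else 0 := fun i j => by
    rw [C.val j (mem_bf.2 (hB (hκ i).1)), C.val j (mem_bf.2 (hB hs2)), if_pos (hκ i).1, if_pos hs2,
      if_neg ((hκ i).2 j)]
    by_cases h : j = j₀
    · rw [if_pos h, if_pos (h ▸ hs1)]; rfl
    · rw [if_neg h, if_neg (Finset.disjoint_right.1 (C.of_ne h).2 hs1)]; rfl
  have p4 : ∀ i j, ψ i (u j) = if j = j₀ then 3 else 0 := fun i j => by
    have := congrArg (Int.cast (R := ℂ)) (p4' i j)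
    simpa [hψ, H.cv_cast R hr] using this
  have p5 : ∀ i, ∃ n : ℤ, ψ i 1 = (3 * n : ℤ) := fun i => by
    obtain ⟨a, ha⟩ := C.cong j₀ _ (mem_bf.2 (hB (hκ i).1))
    obtain ⟨b, hb⟩ := C.cong j₀ _ (mem_bf.2 (hB hs2))
    have := p4' i j₀
    rw [if_pos rfl] at this
    refine ⟨1 - sg (dg i.1) * a + sg (dg s) * b, ?_⟩
    rw [show 3 * (1 - sg (dg i.1) * a + sg (dg s) * b) = sg (dg i.1) * dg i.1 - sg (dg s) * dg s by
      linear_combination sg (dg i.1) * ha - sg (dg s) * hb - this]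
    simp [hψ, dg_cast]
  have p6 : ∀ i k, classInner (ψ i) (ψ k) = if i = k then 2 else 1 := fun i k => by
    have h1 : ∀ n, (sg n * sg n : ℂ) = 1 := fun n => by exact_mod_cast sg_sq n
    simp only [hψ, classInner_sub_left, classInner_sub_right, classInner_smul_left,
      classInner_smul_right, classInner_irr_irr, map_intCast, if_neg (hne _), if_neg (hne _).symm,
      Subtype.val_inj]
    split_ifs with h
    · subst h; linear_combination h1 (dg i.1) + h1 (dg s)
    · linear_combination h1 (dg s)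
  obtain ⟨col, hcol⟩ : ∃ col : G → ℂ, col = (3 : ℂ)⁻¹ •
    ∑ χ ∈ bf (principalBlock M G), (cv u j₀ χ : ℂ) • (χ : G → ℂ) := ⟨_, rfl⟩
  have c1 : ∀ x w, IsPPart 3 x w → col x = if IsConj w (u j₀) then 3 else 0 := fun x w hw => by
    have := H.KK_out hM (R.mem j₀) (R.out j₀) hw (H.ppart R j₀) (IsConj.refl _)
    simp only [KK, ← H.cv_cast R hr, map_intCast] at this
    simp only [hcol, Pi.smul_apply, Finset.sum_apply, smul_eq_mul, mul_comm (cv u j₀ _ : ℂ), this]
    split_ifs <;> norm_num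
  have c2 : ∀ i, classInner col (ψ i) = 1 := fun i => by
    have := apply_eq_sum (p2 i) (u j₀)
    rw [p4, if_pos rfl] at this
    rw [← classInner_conj_symm, hcol, classInner_smul_right, classInner_sum_right,
      Finset.sum_congr rfl fun χ _ => by
        rw [classInner_smul_right, map_intCast, H.cv_cast R hr, mul_comm], ← this]
    simp [map_ofNat]
  have c3 : ∀ i, ψ i = FF z 1 (pRegularPart 3 (ψ i)) + col := fun i => funext fun x => by
    obtain ⟨w, hw, h1 | ⟨h1, j, h2⟩⟩ := H.sec hz R x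
    · rw [Pi.add_apply, H.FF_in hz (p3 i) hw h1, c1 x w hw, if_neg fun h => H.not_conj R _ h1 h.symm,
        add_zero]
    · rw [Pi.add_apply, H.FF_out hz _ _ hw h1, c1 x w hw, zero_add, apply_eq_sum (p2 i),
        Finset.sum_congr rfl fun χ hχ => by rw [H.val hM (R.mem j) (R.out j) hw h2 (mem_bf.1 hχ)],
        ← apply_eq_sum (p2 i), p4]
      exact if_congr ⟨fun h => h ▸ h2, fun h => R.inj _ _ (h2.symm.trans h)⟩ rfl rfl
  have g0 : ∀ {ζ}, ζ ^ 3 = 1 → ∀ g i, classInner (FF z ζ (pRegularPart 3 g)) (ψ i) =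
      (if ζ = 1 then 3 else 0) * mm 3 g (ψ i) := fun hζ g i => H.inner_FF hζ (one_pow 3) _ (p3 i)
  have g1 : ∀ i k, 3 * mm 3 (ψ i) (ψ k) = if i = k then 1 else 0 := fun i k => by
    have := p6 i k
    rw [c3 i, classInner_add_left, c2, g0 (one_pow 3), if_pos rfl] at this
    split_ifs at this ⊢ <;> linear_combination this
  have good : ∀ {ζ}, ζ ^ 3 = 1 → ζ ≠ 1 → ∀ i {a}, IsGeneralizedCharacter G a →
      blockPart (principalBlock M G) a = a → (∀ y, ¬ 3 ∣ orderOf y → a y = ψ i y) →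
      Good M (a - FF z ζ (pRegularPart 3 (ψ i))) := fun hζ h1 i a ha hb hy =>
    ⟨isGenChar_sub ha (H.gen_FF hz R hr hM j₀ (p1 i) (p2 i) (p5 i).choose_spec hζ h1),
      by rw [blockPart_sub, hb, H.blk_FF hz hM hζ (p2 i)],
      fun y h => by rw [Pi.sub_apply, hy y h, H.FF_reg hz _ _ h, sub_self]⟩
  refine ⟨κ, fun i => ψ i - FF z ω (pRegularPart 3 (ψ i)), fun i =>
    FF z ω (pRegularPart 3 (ψ i)) - FF z (ω ^ 2) (pRegularPart 3 (ψ i)), C.card_Pl j₀ hT,
    fun i => good hω hω1 i (p1 i) (p2 i) fun _ _ => rfl, fun i => good hω2 hω3 i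
      (H.gen_FF hz R hr hM j₀ (p1 i) (p2 i) (p5 i).choose_spec hω hω1) (H.blk_FF hz hM hω (p2 i))
      fun y h => H.FF_reg hz _ _ h, fun i k => ?_, fun i k => ?_, fun i k => ?_, fun i j => ?_,
    fun i j => ?_, fun θ h1 h2 h3 => ?_⟩
  · rw [classInner_sub_left, classInner_sub_right, classInner_sub_right, p6, g0 hω, if_neg hω1,
      classInner_eq_zero_symm (φ := FF _ _ _) (by rw [g0 hω, if_neg hω1, zero_mul]),
      H.inner_FF_FF hz hω hω, if_pos rfl, g1]
    split_ifs <;> norm_num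
  · simp only [classInner_sub_left, classInner_sub_right, H.inner_FF_FF hz, hω, hω2, hω4, hω4.symm,
      if_true, if_false, g1]
    split_ifs <;> norm_num
  · simp only [classInner_sub_left, classInner_sub_right, H.inner_FF_FF hz, hω, hω2, hω4.symm,
      if_true, if_false, g1, g0, hω1, hω3]
    split_ifs <;> norm_num
  · simp only [Pi.sub_apply, H.FF_u hz R, p4, sub_zero]
  · simp only [Pi.sub_apply, H.FF_u hz R, sub_zero]
  have t1 : classInner col θ = 0 := by
    rw [classInner_def, Finset.sum_eq_zero, mul_zero]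
    intro x _
    obtain ⟨w, hw⟩ := exists_isPPart Nat.prime_three x
    rw [c1 x w hw]
    split_ifs with h
    · rw [h1 x w _ hw h]; simp
    · simp
  set g := blockPart (principalBlock M G) fun x => θ (z * x)
  have t2 : ∀ i, mm 3 g (ψ i) = 0 := fun i => by
    have e1 := h2 i
    have e2 := h3 i
    simp only at e1 e2
    nth_rw 1 [c3 i] at e1
    simp only [classInner_sub_left, classInner_add_left, t1, inner_FF'] at e1 e2
    rw [mm_eq_right, classInner_blockPart_comm, blockPart_reg hM isPBlock_principalBlock, p2]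
    refine classInner_eq_zero_symm (mul_left_cancel₀ (sub_ne_zero.2 hω4) ?_)
    have h4 : ω ^ 2 + ω + 1 = 0 := mul_left_cancel₀ (sub_ne_zero.2 hω1) (by linear_combination hω)
    generalize classInner (pRegularPart 3 (ψ i)) (fun x => θ (z * x)) = a at *
    generalize classInner (pRegularPart 3 (ψ i)) (fun x => θ (z⁻¹ * x)) = b at *
    linear_combination (ω - ω ^ 2) / 3 * e1 + (1 - ω ^ 2) / 3 * e2 +
      (ω - ω ^ 2) * a / 3 * h4 + (1 - ω ^ 2) * ω * b / 3 * hω
  have t3 := H.blk_FF hz hM (one_pow 3) (g := g) (blockPart_idem _ _)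
  have t4 := C.span hT hs1 (fun χ => classInner (FF z 1 (pRegularPart 3 g)) χ) (fun j => by
    have := apply_eq_sum t3 (u j)
    rw [H.FF_u hz R, H.sum_Hs hz R hr hM] at this
    simpa only [H.cv_cast R hr] using this.symm) fun i hi => by
      have := g0 (one_pow 3) g ⟨i, hi⟩
      rw [t2, mul_zero, hψ, classInner_sub_right, classInner_smul_right, classInner_smul_right,
        map_intCast, map_intCast] at this
      exact sub_eq_zero.1 this
  rw [← H.FF_reg hz 1 g (x := 1) (by simp), apply_eq_sum t3, H.sum_Hs hz R hr hM]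
  exact Finset.sum_eq_zero fun χ hχ => by rw [t4 χ hχ, zero_mul]

end Hyp

end CfsgLib.E27
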