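import Mathlib
import Cfsg.Agent.Lib.E27.Cen

/-!
# Principal 3-blocks with Sylow subgroup `3^{1+2}` and `N(P) ≤ C(Z(P))`
-/

set_option autoImplicit false

namespace CfsgLib.E27

open Cfsg Subgroup CfsgLib.Block CfsgLib.Blk CfsgLib.Char CfsgLib.WAb
open CfsgLib.BrPair (Cz Nz Ce)
open scoped ComplexConjugate

theorem card_Hs_eq_nine {ι : Type*} [DecidableEq ι] {S : Finset ι} {d : ι → ℤ}
    (hd : ∀ χ ∈ S, 0 < d χ) (h1 : S.card = 11) (h2 : ∑ χ ∈ S, d χ * d χ = 27) :
    (Hs S d).card = 9 := by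
  have h0 : ((Hs S d).card : ℤ) = ∑ χ ∈ S, if 3 ∣ d χ then 0 else 1 := by
    rw [Hs, Finset.card_filter]; push_cast; simp only [ite_not]
  have h3 : ∑ χ ∈ S, (9 - 8 * if 3 ∣ d χ then 0 else 1) ≤ ∑ χ ∈ S, d χ * d χ :=
    Finset.sum_le_sum fun χ hχ => by
      have := hd χ hχ
      split_ifs with h
      · have := Int.le_of_dvd this h; nlinarith
      · nlinarith
  have h4 : 3 ∣ ∑ χ ∈ S, (d χ * d χ - if 3 ∣ d χ then 0 else 1) := Finset.dvd_sum fun χ _ => by
    split_ifs with h
    · simpa using h.mul_right _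
    · obtain ⟨k, hk | hk⟩ : ∃ k, d χ = 3 * k + 1 ∨ d χ = 3 * k + 2 := ⟨d χ / 3, by omega⟩
      exacts [⟨3 * k * k + 2 * k, by rw [hk]; ring⟩, ⟨3 * k * k + 4 * k + 1, by rw [hk]; ring⟩]
  have h5 := Finset.card_filter_le S fun χ => ¬ 3 ∣ d χ
  rw [Finset.sum_sub_distrib, ← Finset.mul_sum, Finset.sum_const, h1, ← h0, h2] at h3
  rw [Finset.sum_sub_distrib, ← h0, h2] at h4
  simp only [Hs, nsmul_eq_mul] at *
  omega

variable {G : Type*} [Group G] [Finite G] {J : Type*} {M : Ideal AlgInt}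

theorem sum_inner {K : Type*} [Group K] [Fintype K] (f : K → G) (a : K → ℂ) (y : G) :
    ∑ χ ∈ bf (principalBlock M G), classInner a (fun x => (χ : G → ℂ) (f x)) * (χ : G → ℂ) y =
      (Nat.card K : ℂ)⁻¹ * ∑ x, a x * KK M y (f x) := by
  simp only [classInner_def, KK, Finset.mul_sum, Finset.sum_mul]
  rw [Finset.sum_comm]
  exact Finset.sum_congr rfl fun _ _ => Finset.sum_congr rfl fun _ _ => by ring

/-- The multiplicity of `χ` in the function induced from `a`. -/
noncomputable def co {K : Subgroup G} [Fintype K] (a : K → ℂ) (χ : IrrCharacter G) : ℤ :=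
  ⌊(classInner a fun x => (χ : G → ℂ) x).re⌋

omit [Finite G] in
theorem co_cast {K : Subgroup G} [Fintype K] {a : K → ℂ} (ha : IsGeneralizedCharacter K a)
    (χ : IrrCharacter G) : (co a χ : ℂ) = classInner a fun x => (χ : G → ℂ) x := by
  obtain ⟨n, hn⟩ := exists_classInner_eq_int ha (isGenChar_restrict K (isGenChar_of_isIrr χ.2))
  rw [co, hn]; simp

namespace Hyp

variable {P : Sylow 3 G} {z : G} (H : Hyp P z) (hM : IsPModular 3 M)
include H hM

theorem key [Fintype (Cu z)] {a : Cu z → ℂ} (ha : Good M a) (y : Cu z) :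
    ∑ χ ∈ bf (principalBlock M G), co a χ * (χ : G → ℂ) y = a y := by
  simp only [co_cast ha.gen]
  rw [sum_inner, apply_eq_sum ha.blk, sum_inner fun x => x]
  refine congrArg _ (Finset.sum_congr rfl fun x _ => ?_)
  by_cases hx : 3 ∣ orderOf x
  · rw [KK_swap, H.KK_sub hM hx, ← KK_swap]
  · rw [ha.van x hx, zero_mul, zero_mul]

theorem gram [Fintype (Cu z)] {a b : Cu z → ℂ} (ha : Good M a) (hb : Good M b) :
    ((∑ χ ∈ bf (principalBlock M G), co a χ * co b χ : ℤ) : ℂ) = classInner a b := by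
  have : a = ∑ χ ∈ bf (principalBlock M G), (co a χ : ℂ) • fun x : Cu z => (χ : G → ℂ) x :=
    funext fun y => by rw [← H.key hM ha]; simp
  nth_rw 2 [this]
  rw [classInner_sum_left, Int.cast_sum]
  exact Finset.sum_congr rfl fun χ _ => by
    rw [classInner_smul_left, ← classInner_conj_symm, ← co_cast hb.gen, map_intCast, Int.cast_mul]

variable {u : J → G} (R : Reps P z u)
include R

theorem main (hr : ∀ j, IsConj (u j) (u j)⁻¹) [Fintype J] (j₀ : J) [DecidableEq (IrrCharacter G)] :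
    (Hs (bf (principalBlock M G)) dg).card = 6 ∧ kk M G + 2 * Fintype.card J = 18 := by
  classical
  have := Fintype.ofFinite (Cu z)
  have C := H.cols R hr hM
  obtain ⟨κ, γ, α, hκ, hγ, hα, g1, g2, g3, g4, g5, cov⟩ := H.sub.cen (uC_mem_center z)
    (H.reps_sub R) (fun j => H.isConj_sub (H.sub.pElt (R.mem j)) (hr j)) hM j₀
  have val : ∀ {a : Cu z → ℂ}, Good M a → ∀ j,
      ((∑ χ ∈ bf (principalBlock M G), co a χ * cv u j χ : ℤ) : ℂ) = a ⟨u j, H.le_Cu (R.mem j)⟩ :=
    fun ha j => by simp only [← H.key hM ha, Int.cast_sum, Int.cast_mul, H.cv_cast R hr]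
  have := C.main (κ := κ) (fun χ _ => dg_pos χ) (by simpa using hκ) j₀ (fun i => co (γ i))
    (fun i => co (α i))
    (fun i k => by have := H.gram hM (hγ i) (hγ k); rw [g1] at this; exact_mod_cast this)
    (fun i k => by have := H.gram hM (hα i) (hα k); rw [g2] at this; exact_mod_cast this)
    (fun i k => by have := H.gram hM (hα i) (hγ k); rw [g3] at this; exact_mod_cast this)
    (fun i j => by have := val (hγ i) j; rw [g4] at this; exact_mod_cast this)
    (fun i j => by have := val (hα i) j; rw [g5] at this; exact_mod_cast this)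
    (fun i => by
      have := H.key hM (hα i) 1
      rw [(hα i).van 1 (by simp), coe_one] at this
      simp only [← dg_cast] at this
      exact_mod_cast this)
    fun χ hχ h3 => by
      by_contra! h
      have hχ' := mem_bf.1 hχ
      have h1 : ∀ x w j, IsPPart 3 x w → IsConj w (u j) → (χ : G → ℂ) x = 0 := fun x w j hw h2 => by
        rw [H.val hM (R.mem j) (R.out j) hw h2 hχ', ← H.cv_cast R hr, (C.eq_zero_iff j hχ).2 h3,
          Int.cast_zero]
      have h2 := cov (fun x => (χ : G → ℂ) x)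
        (fun x w j hw h2 => h1 x w j (isPPart_coe hw) ((Cu z).subtype.map_isConj h2))
        (fun i => by rw [← co_cast (hγ i).gen, (h i).1, Int.cast_zero])
        fun i => by rw [← co_cast (hα i).gen, (h i).2, Int.cast_zero]
      have := Fintype.ofFinite G
      have h4 := (blockPart_sh z _ (irr_isClassFunction χ) 1).symm.trans h2
      rw [mul_one, ← blockPart_principal_eq hM (irr_isClassFunction χ) (uC z)
        (isPPart_self Nat.prime_three (H.pElt H.mem)), blockPart_irr_of_mem hχ', coe_uC] at h4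
      obtain ⟨g, hg, h5⟩ := exists_ne_zero_of_mem_principal hM ((Dvd.intro 9 H.card.symm).trans
        (P : Subgroup G).card_subgroup_dvd_card) hχ'
      rcases H.pcl R ⟨1, hg⟩ with ⟨t, ht, h6⟩ | ⟨j, h6⟩
      · obtain ⟨c, rfl⟩ := isConj_iff.1 h6.symm
        rw [irr_isClassFunction] at h5
        rcases H.mem_Z.1 ht with rfl | rfl | rfl
        · simp at hg
        · exact h5 h4
        · exact h5 (by rw [char_inv (irr_isCharacter χ), h4, map_zero])
      · exact h5 (h1 g g j (isPPart_self Nat.prime_three ⟨1, hg⟩) h6)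
  rw [Fintype.card_coe] at this
  exact ⟨this.1, by rw [kk, card_bf]; omega⟩

theorem ll_eq (hr : ∀ j, IsConj (u j) (u j)⁻¹) [Fintype J] (j₀ : J) :
    ll 3 M G + Fintype.card J = 6 := by
  classical
  have h1 := (H.main hM R hr j₀).2
  have h2 := (H.sub.main hM (H.reps_sub R)
    (fun j => H.isConj_sub (H.sub.pElt (R.mem j)) (hr j)) j₀).2
  have h3 := H.kk_eq R hM
  have h4 := H.sub.kk_eq (H.reps_sub R) hM
  rw [show Cu (uC z) = ⊤ from Fgs.cent_eq_top_iff.2 (uC_mem_center z),
    ll_congr hM topEquiv] at h4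
  omega

omit R in
theorem result {k₀ e : ℕ} (hk₀ : Nat.card {χ : IrrCharacter G // χ ∈ principalBlock M G ∧
      blockHeight 3 (principalBlock M G) (χ : G → ℂ) = 0} = k₀)
    (he : ((P : Subgroup G) ⊔ Cz (P : Subgroup G)).relIndex (Nz (P : Subgroup G)) = e) :
    (e = 1 → kk M G = 11 ∧ k₀ = 9 ∧ ll 3 M G = 1) ∧
      (2 ∣ e → ∃ r, r * e = 8 ∧ kk M G + 2 * r = 18 ∧ k₀ = 6 ∧ ll 3 M G + r = 6) := by
  classical
  have := Fintype.ofFinite G
  obtain ⟨u, R⟩ := exists_reps P z
  have h0 : k₀ = (Hs (bf (principalBlock M G)) dg).card := by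
    rw [← hk₀, ← Nat.card_eq_finsetCard]
    exact Nat.card_congr (Equiv.subtypeEquivRight fun χ => by
      rw [Hs, Finset.mem_filter, mem_bf]
      exact and_congr_right fun h => height_zero_iff hM h)
  have h1 := H.card_J R
  rw [he] at h1
  refine ⟨fun h => ?_, fun h => ?_⟩
  · have h2 : HasNormalPComplement 3 G :=
      (Transfer.hasNormalPComplement_iff_control P).2 fun x hx g hg => by
        obtain ⟨n, hn, h3⟩ := H.control hx hg
        obtain ⟨a, ha, c, hc, rfl⟩ := (BrPair.mem_sup_iff_of_le_Nz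
          (le_normalizer.trans (BrPair.Nz_le_Nz_Cz _))).1 (relIndex_eq_one.1 (he.trans h) hn)
        exact ⟨a, ha, by rw [h3, mul_assoc a, ← BrPair.mem_Cz.1 hc x hx]; group⟩
    have h3 := H.kk_eq R hM
    rw [(ll_eq_one_iff hM).2 h2, (ll_eq_one_iff hM).2 (Transfer.hasNormalPComplement_subgroup h2 _),
      show Fintype.card _ = 8 by simpa [h] using h1] at h3
    refine ⟨h3, h0.trans (card_Hs_eq_nine (fun χ _ => dg_pos χ) ((card_bf _).symm.trans h3) ?_),
      (ll_eq_one_iff hM).2 h2⟩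
    obtain ⟨k, hk⟩ := index_pPrimeCore_of_hasNormalPComplement h2
    have h4 := sum_principal_of_index hM hk (y := 1) (y' := 1) (by simp) (by simp)
    rw [← Nat.cast_pow, ← P.card_eq_multiplicity, H.card] at h4
    simp only [← dg_cast, map_intCast] at h4
    exact_mod_cast h4
  · have hr : ∀ j, IsConj (u j) (u j)⁻¹ := fun j => by
      obtain ⟨n, -, hn⟩ := H.isConj_inv (he ▸ h) (R.mem j) (R.out j)
      exact isConj_iff.2 ⟨n, hn⟩
    obtain ⟨j₀⟩ := Fintype.card_pos_iff.1 (Nat.pos_of_mul_pos_right (lt_of_lt_of_eq (Nat.succ_pos 7) h1.symm))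
    exact ⟨_, h1, (H.main hM R hr j₀).2, h0.trans (H.main hM R hr j₀).1, H.ll_eq hM R hr j₀⟩

end Hyp

end CfsgLib.E27
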